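import Cfsg.Agent.S2553
import Cfsg.Agent.Lib.Solvable.Converse
import Cfsg.Agent.Lib.GLOrder.Basic

/-!
Nonsolvable subgroups of `GL_4(2)` without normal 2-subgroups (namespace `Cfsg.Agent.RankFour`).

* `isSolvable_of_odd_card_dvd`: odd-order groups of order dividing `20160` are solvable
* `card_pCore_three`: with a nontrivial odd core, `|O_3| = 3` and the quotient is `A_5` or `S_5`
* `classify`
-/

set_option autoImplicit false

namespace Cfsg.Agent.RankFour

open Equiv

local notation "𝔾" => GL (Fin 4) (ZMod 2)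

universe u

theorem simple_odd_dvd {S : Type u} [Group S] [Finite S] [IsSimpleGroup S] (hS : ¬ IsMulCommutative S)
    (hd : Nat.card S ∣ 20160) (hodd : (Nat.card S).Coprime 2) : False := by
  have h315 : Nat.card S ∣ 315 := (hodd.pow_right 6).dvd_of_dvd_mul_left (by norm_num; exact hd)
  have hmem : Nat.card S ∈ Nat.divisors 315 := Nat.mem_divisors.2 ⟨h315, by norm_num⟩
  rw [show Nat.divisors 315 = {1, 3, 5, 7, 9, 15, 21, 35, 45, 63, 105, 315} from by decide +kernel] at hmem
  simp only [Finset.mem_insert, Finset.mem_singleton] at hmem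
  have h2 : ∀ p q : ℕ, p.Prime → q.Prime → ∀ a b : ℕ, Nat.card S = p ^ a * q ^ b → False :=
    fun p q hp hq a b h => hS ⟨⟨IsSimpleGroup.comm_iff_isSolvable.2
      (CharApp.isSolvable_of_card_eq_prime_pow_mul p q hp hq _ S rfl a b h)⟩⟩
  have p3 : Nat.Prime 3 := Nat.prime_three
  have p5 : Nat.Prime 5 := Nat.prime_five
  have p7 : Nat.Prime 7 := by norm_num
  have nn := @SmallOrders.card_ne_of_critBool S _ _ _ hS
  rcases hmem with h | h | h | h | h | h | h | h | h | h | h | h
  · exact h2 3 5 p3 p5 0 0 (by rw [h]; norm_num)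
  · exact h2 3 5 p3 p5 1 0 (by rw [h]; norm_num)
  · exact h2 3 5 p3 p5 0 1 (by rw [h]; norm_num)
  · exact h2 3 7 p3 p7 0 1 (by rw [h]; norm_num)
  · exact h2 3 5 p3 p5 2 0 (by rw [h]; norm_num)
  · exact h2 3 5 p3 p5 1 1 (by rw [h]; norm_num)
  · exact h2 3 7 p3 p7 1 1 (by rw [h]; norm_num)
  · exact h2 5 7 p5 p7 1 1 (by rw [h]; norm_num)
  · exact h2 3 5 p3 p5 2 1 (by rw [h]; norm_num)
  · exact h2 3 7 p3 p7 2 1 (by rw [h]; norm_num)
  · exact absurd h (nn 5 1 (by decide +kernel))
  · exact absurd h (nn 5 1 (by decide +kernel))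

theorem isSolvable_of_odd_card_dvd : ∀ (n : ℕ) (G : Type u) [Group G] [Finite G], Nat.card G = n →
    Nat.card G ∣ 20160 → (Nat.card G).Coprime 2 → Group.IsSolvable G := by
  intro n
  induction n using Nat.strong_induction_on with
  | _ n ih =>
    intro G _ _ hn hd hodd
    by_contra hns
    have : Nontrivial G := by
      by_contra h
      rw [not_nontrivial_iff_subsingleton] at h
      exact hns (Group.isSolvable_of_comm fun a b => Subsingleton.elim _ _)
    by_cases hs : IsSimpleGroup G
    · refine simple_odd_dvd (fun h => hns ?_) hd hodd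
      exact Group.isSolvable_of_comm fun a b => h.is_comm.comm a b
    · obtain ⟨N, hN, hN0, hNt⟩ : ∃ N : Subgroup G, N.Normal ∧ N ≠ ⊥ ∧ N ≠ ⊤ := by
        by_contra h
        push Not at h
        exact hs ⟨fun N hN => or_iff_not_imp_left.2 fun h0 => h N hN h0⟩
      haveI := hN
      have h1 : Nat.card N * N.index = Nat.card G := N.card_mul_index
      have hN1 : Group.IsSolvable N := by
        refine ih _ (hn ▸ lt_of_le_of_ne (Subgroup.card_le_card_group N) fun e => hNt (Subgroup.eq_top_of_card_eq N e))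
          N rfl ?_ ?_
        · exact (Dvd.intro _ h1).trans hd
        · exact hodd.coprime_dvd_left (Dvd.intro _ h1)
      have hN2 : Group.IsSolvable (G ⧸ N) := by
        refine ih _ ?_ (G ⧸ N) rfl ?_ ?_
        · rw [← hn, ← h1, ← Subgroup.index_eq_card]
          exact lt_mul_of_one_lt_left (Nat.pos_of_ne_zero N.index_ne_zero_of_finite) (N.one_lt_card_iff_ne_bot.2 hN0)
        · rw [← Subgroup.index_eq_card]; exact (Dvd.intro_left _ h1).trans hd
        · rw [← Subgroup.index_eq_card]; exact hodd.coprime_dvd_left (Dvd.intro_left _ h1)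
      exact hns (Group.isSolvable_of_ker_le_range N.subtype (QuotientGroup.mk' N)
        (by rw [QuotientGroup.ker_mk', Subgroup.range_subtype]))

variable {Q : Type*} [Group Q] [Finite Q]

theorem isSolvable_of_primes (hd : Nat.card Q ∣ 20160) (h5 : ¬ 5 ∣ Nat.card Q) (h7 : ¬ 7 ∣ Nat.card Q) :
    Group.IsSolvable Q := by
  have h : Nat.card Q ∣ 2 ^ 6 * 3 ^ 2 :=
    ((((Nat.prime_five).coprime_iff_not_dvd.2 h5).symm).mul_right
      ((by norm_num : Nat.Prime 7).coprime_iff_not_dvd.2 h7).symm).dvd_of_dvd_mul_left hd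
  obtain ⟨a, b, ha, hb, hab⟩ := Nat.dvd_mul.1 h
  obtain ⟨i, -, rfl⟩ := (Nat.dvd_prime_pow Nat.prime_two).1 ha
  obtain ⟨j, -, rfl⟩ := (Nat.dvd_prime_pow Nat.prime_three).1 hb
  exact CharApp.isSolvable_of_card_eq_prime_pow_mul 2 3 Nat.prime_two Nat.prime_three _ Q rfl i j hab.symm

theorem not_orderOf_five_seven_commute (a b : Perm (Fin 8)) (ha : orderOf a = 7)
    (hb : orderOf b = 5) : a * b ≠ b * a := by
  intro h
  have ho : orderOf (a * b) = 35 := by
    rw [(show Commute a b from h).orderOf_mul_eq_mul_orderOf_of_coprime (by rw [ha, hb]; norm_num), ha, hb]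
  have hdvd : orderOf (a * b) ∣ Nat.card (Perm (Fin 8)) := orderOf_dvd_natCard _
  have key : ∀ k : ℕ, k ≤ 8 → ∀ m ∈ (a * b).cycleType, m = k → k ≠ 5 ∨ 7 ∉ (a * b).cycleType := by
    intro k _ m hm hmk
    by_contra hh
    rw [not_or, not_not, not_not] at hh
    have hs : m + 7 ≤ (a * b).cycleType.sum := by
      have h7 : 7 ∈ (a * b).cycleType.erase m := (Multiset.mem_erase_of_ne (by omega)).2 hh.2
      have := Multiset.le_sum_of_mem h7
      rw [← Multiset.cons_erase hm, Multiset.sum_cons]
      omega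
    have := (a * b).sum_cycleType.le.trans (Finset.card_le_univ _)
    rw [Fintype.card_fin] at this
    omega
  have hmem : ∀ p : ℕ, p.Prime → 5 ≤ p → p ∣ 35 → p ∈ (a * b).cycleType := by
    intro p hp hp5 hpd
    by_contra hno
    have hall : ∀ m ∈ (a * b).cycleType, ¬ p ∣ m := by
      intro m hm hpm
      obtain ⟨k, rfl⟩ := hpm
      have hle : p * k ≤ 8 :=
        ((Multiset.le_sum_of_mem hm).trans (a * b).sum_cycleType.le).trans
          ((Finset.card_le_univ _).trans (by simp))
      have h2 := Perm.two_le_of_mem_cycleType hm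
      have : k = 1 := by nlinarith
      subst this
      exact hno (by simpa using hm)
    have : p ∣ (a * b).cycleType.lcm := by rw [Perm.lcm_cycleType, ho]; exact hpd
    obtain ⟨m, hm, hpm⟩ : ∃ m ∈ (a * b).cycleType, p ∣ m := by
      revert this
      generalize (a * b).cycleType = s
      induction s using Multiset.induction_on with
      | empty => intro hh; simp at hh; exact absurd hh hp.ne_one
      | cons x t ih =>
        intro hh
        rw [Multiset.lcm_cons] at hh
        rcases (Nat.Prime.dvd_mul hp).1 (hh.trans (Nat.lcm_dvd_mul _ _)) with hh | hh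
        · exact ⟨x, Multiset.mem_cons_self _ _, hh⟩
        · obtain ⟨m, hm, hpm⟩ := ih hh
          exact ⟨m, Multiset.mem_cons_of_mem hm, hpm⟩
    exact hall m hm hpm
  rcases key 5 (by norm_num) 5 (hmem 5 (by norm_num) le_rfl (by norm_num)) rfl with h5 | h7
  · exact h5 rfl
  · exact h7 (hmem 7 (by norm_num) (by norm_num) (by norm_num))

theorem zpow_eq_one_of_fix {α : Type*} [Fintype α] [DecidableEq α] {g : Perm α} (hg : g.IsCycle) {w : α}
    (hw : g w ≠ w) {k : ℤ} (hk : (g ^ k) w = w) : g ^ k = 1 := by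
  ext y
  by_cases hy : g y = y
  · rw [Perm.zpow_apply_eq_self_of_apply_eq_self hy]; rfl
  · obtain ⟨j, rfl⟩ := hg.exists_zpow_eq hw hy
    rw [← Perm.mul_apply, ← zpow_add, add_comm, zpow_add, Perm.mul_apply, hk]
    rfl

theorem not_commute_three {g c : Perm (Fin 8)} (hg : orderOf g = 7) (hc : orderOf c = 3) : g * c ≠ c * g := by
  intro hcomm
  have hcyc : g.IsCycle := Perm.isCycle_of_prime_order' (by rw [hg]; norm_num) (by simp [hg])
  have hsupp : g.support.card = 7 := by rw [← hcyc.orderOf, hg]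
  obtain ⟨z, hz⟩ : ∃ z, z ∉ g.support := by
    by_contra h
    push Not at h
    rw [Finset.eq_univ_iff_forall.2 h, Finset.card_univ, Fintype.card_fin] at hsupp
    norm_num at hsupp
  have hfix : ∀ w, g w = w → w = z := by
    intro w hw
    by_contra hne
    have : ({w, z} : Finset (Fin 8)) ⊆ g.supportᶜ := by
      intro y hy
      rcases Finset.mem_insert.1 hy with rfl | hy
      · simp [hw]
      · rw [Finset.mem_singleton.1 hy, Finset.mem_compl]; exact hz
    have := Finset.card_le_card this
    rw [Finset.card_pair hne, Finset.card_compl, Fintype.card_fin, hsupp] at this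
    omega
  have hcz : c z = z := hfix _ (by
    have := congrArg (fun σ : Perm (Fin 8) => σ z) hcomm
    simp only [Perm.mul_apply] at this
    rw [this, Perm.notMem_support.1 hz])
  have hc1 : c = 1 := by
    ext w
    by_cases hw : g w = w
    · rw [hfix w hw, hcz]; rfl
    · have hcw : g (c w) ≠ c w := fun e => hw (by
        have := congrArg (fun σ : Perm (Fin 8) => σ w) hcomm
        simp only [Perm.mul_apply] at this
        exact c.injective (this.symm.trans e))
      obtain ⟨i, hi⟩ := hcyc.exists_zpow_eq hw hcw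
      have hcg : Commute c (g ^ i) := (show Commute g c from hcomm).symm.zpow_right i
      have h3 : (c ^ 3) w = (g ^ (3 * i)) w := by
        have e : ∀ k : ℕ, (c ^ k) w = (g ^ ((k : ℤ) * i)) w := by
          intro k
          induction k with
          | zero => simp
          | succ k ih =>
            rw [pow_succ', Perm.mul_apply, ih, ← Perm.mul_apply,
              ((show Commute g c from hcomm).symm.zpow_right _).eq, Perm.mul_apply, ← hi, ← Perm.mul_apply,
              ← zpow_add]
            push_cast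
            ring_nf
        exact_mod_cast e 3
      rw [← hc, pow_orderOf_eq_one] at h3
      have h7 : g ^ (3 * i) = 1 := zpow_eq_one_of_fix hcyc hw h3.symm
      rw [← orderOf_dvd_iff_zpow_eq_one, hg] at h7
      have h7' : (7 : ℤ) ∣ i := by
        have : (7 : ℤ) ∣ 3 * i := by exact_mod_cast h7
        omega
      have : g ^ i = 1 := by rw [← orderOf_dvd_iff_zpow_eq_one, hg]; exact_mod_cast h7'
      rw [← hi, this]
  rw [hc1, orderOf_one] at hc
  norm_num at hc

theorem support_three {g c : Perm (Fin 8)} (hg : orderOf g = 5) (hc : orderOf c = 3) (hcomm : g * c = c * g) :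
    c.support.card = 3 := by
  have hcyc : g.IsCycle := Perm.isCycle_of_prime_order' (by rw [hg]; norm_num) (by simp [hg])
  have hsupp : g.support.card = 5 := by rw [← hcyc.orderOf, hg]
  have hsub : c.support ⊆ g.supportᶜ := by
    intro w hw
    rw [Finset.mem_compl, Perm.mem_support, not_not]
    by_contra hgw
    refine Perm.mem_support.1 hw ?_
    have hcw : g (c w) ≠ c w := fun e => hgw (by
      have := congrArg (fun σ : Perm (Fin 8) => σ w) hcomm
      simp only [Perm.mul_apply] at this
      exact c.injective (this.symm.trans e))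
    obtain ⟨i, hi⟩ := hcyc.exists_zpow_eq hgw hcw
    have e : ∀ k : ℕ, (c ^ k) w = (g ^ ((k : ℤ) * i)) w := by
      intro k
      induction k with
      | zero => simp
      | succ k ih =>
        rw [pow_succ', Perm.mul_apply, ih, ← Perm.mul_apply,
          ((show Commute g c from hcomm).symm.zpow_right _).eq, Perm.mul_apply, ← hi, ← Perm.mul_apply,
          ← zpow_add]
        push_cast
        ring_nf
    have h3 := e 3
    rw [← hc, pow_orderOf_eq_one, hc] at h3
    have h5 : g ^ (((3 : ℕ) : ℤ) * i) = 1 := zpow_eq_one_of_fix hcyc hgw h3.symm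
    rw [← orderOf_dvd_iff_zpow_eq_one, hg] at h5
    have h5' : (5 : ℤ) ∣ i := by
      push_cast at h5
      omega
    have : g ^ i = 1 := by rw [← orderOf_dvd_iff_zpow_eq_one, hg]; exact_mod_cast h5'
    rw [← hi, this]
    rfl
  have hle := Finset.card_le_card hsub
  rw [Finset.card_compl, Fintype.card_fin, hsupp] at hle
  have h2 := Perm.two_le_card_support_of_ne_one (f := c) fun e => by rw [e, orderOf_one] at hc; norm_num at hc
  by_contra hne
  obtain ⟨x, y, hxy, rfl⟩ := Perm.card_support_eq_two.1 (show c.support.card = 2 by omega)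
  have h1 : orderOf (swap x y : Perm (Fin 8)) ∣ 2 :=
    orderOf_dvd_of_pow_eq_one (by rw [pow_two, swap_mul_self])
  rw [hc] at h1
  norm_num at h1

theorem alt_five_le (K : Subgroup (Perm (Fin 5))) (hK : ¬ Group.IsSolvable K) :
    alternatingGroup (Fin 5) ≤ K := by
  haveI : IsSimpleGroup (alternatingGroup (Fin 5)) := alternatingGroup.isSimpleGroup (by simp)
  have hA : Nat.card (alternatingGroup (Fin 5)) = 60 := by
    have h := two_mul_nat_card_alternatingGroup (α := Fin 5)
    rw [Nat.card_perm, Nat.card_fin, show Nat.factorial 5 = 120 from rfl] at h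
    omega
  set A := alternatingGroup (Fin 5) with hAdef
  have hAna : ¬ IsMulCommutative A := SmallOrders.not_isMulCommutative_of_card (by rw [hA]; norm_num)
  by_contra hle
  set L := K.subgroupOf A
  have hne : L ≠ ⊤ := fun h => hle (Subgroup.subgroupOf_eq_top.1 h)
  have h5 := SmallOrders.five_le_index hAna hne
  have hLd : Nat.card L * L.index = 60 := hA ▸ L.card_mul_index
  have hsol : Group.IsSolvable L := by
    have hle12 : Nat.card L ≤ 12 := by nlinarith
    have hd : Nat.card L ∣ 60 := Dvd.intro _ hLd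
    have key : ∀ p q : ℕ, p.Prime → q.Prime → ∀ a b : ℕ, Nat.card L = p ^ a * q ^ b → Group.IsSolvable L :=
      fun p q hp hq a b h => CharApp.isSolvable_of_card_eq_prime_pow_mul p q hp hq _ L rfl a b h
    interval_cases h : Nat.card L <;> first
      | (norm_num at hd; done)
      | exact key 2 3 Nat.prime_two Nat.prime_three 0 0 rfl
      | exact key 2 3 Nat.prime_two Nat.prime_three 1 0 rfl
      | exact key 2 3 Nat.prime_two Nat.prime_three 0 1 rfl
      | exact key 2 3 Nat.prime_two Nat.prime_three 2 0 rfl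
      | exact key 2 3 Nat.prime_two Nat.prime_three 1 1 rfl
      | exact key 2 3 Nat.prime_two Nat.prime_three 2 1 rfl
      | exact key 2 5 Nat.prime_two Nat.prime_five 0 1 rfl
      | exact key 2 5 Nat.prime_two Nat.prime_five 1 1 rfl
  apply hK
  let s : K →* ℤˣ := Perm.sign.comp K.subtype
  refine Group.isSolvable_of_ker_le_range
    (MonoidHom.codRestrict (A.subtype.comp L.subtype) K fun x => x.2) s ?_
  intro x hx
  exact ⟨⟨⟨(x : Perm (Fin 5)), Perm.mem_alternatingGroup.2 hx⟩, x.2⟩, Subtype.ext rfl⟩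

theorem pCore_three_eq_bot (K : Subgroup (Perm (Fin 5))) (hK : alternatingGroup (Fin 5) ≤ K) :
    Cfsg.pCore 3 K = ⊥ := by
  haveI : Fact (Nat.Prime 3) := ⟨Nat.prime_three⟩
  haveI : IsSimpleGroup (alternatingGroup (Fin 5)) := alternatingGroup.isSimpleGroup (by simp)
  set A := alternatingGroup (Fin 5)
  set M := Cfsg.pCore 3 K
  have hp := Cores.isPGroup_pCore 3 K
  have hMA : ∀ m ∈ M, (m : Perm (Fin 5)) ∈ A := by
    intro m hm
    obtain ⟨k, hk⟩ := IsPGroup.iff_orderOf.1 hp ⟨m, hm⟩
    rw [Subgroup.orderOf_mk] at hk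
    refine Perm.mem_alternatingGroup.2 ?_
    rcases Int.units_eq_one_or (Perm.sign (m : Perm (Fin 5))) with h | h
    · exact h
    · have h1 : Perm.sign ((m : Perm (Fin 5)) ^ 3 ^ k) = 1 := by
        rw [← SubgroupClass.coe_pow, ← hk, pow_orderOf_eq_one]; exact map_one _
      rw [map_pow, h, Odd.neg_one_pow (Odd.pow (by decide))] at h1
      exact absurd h1 (by decide)
  let N : Subgroup A := (M.map K.subtype).subgroupOf A
  haveI hN : N.Normal := ⟨fun n hn g => by
    obtain ⟨m, hm, hmn⟩ := hn
    refine ⟨⟨(g : Perm (Fin 5)), hK g.2⟩ * m * (⟨(g : Perm (Fin 5)), hK g.2⟩ : K)⁻¹,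
      (Cores.pCore_normal 3 K).conj_mem m hm _, ?_⟩
    simp only [map_mul, map_inv]
    rw [hmn]
    rfl⟩
  rcases hN.eq_bot_or_eq_top with h | h
  · rw [Subgroup.eq_bot_iff_forall]
    intro m hm
    have : (⟨(m : Perm (Fin 5)), hMA m hm⟩ : A) ∈ N := ⟨m, hm, rfl⟩
    rw [h, Subgroup.mem_bot] at this
    exact Subtype.ext (congrArg Subtype.val this :)
  · exfalso
    have hA : Nat.card A = 60 := by
      have h : 2 * Nat.card A = Nat.card (Perm (Fin 5)) := two_mul_nat_card_alternatingGroup
      rw [Nat.card_perm, Nat.card_fin, show Nat.factorial 5 = 120 from rfl] at h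
      omega
    obtain ⟨k, hk⟩ := IsPGroup.iff_card.1 hp
    have h1 : A ≤ M.map K.subtype := Subgroup.subgroupOf_eq_top.1 h
    have h2 := Subgroup.card_dvd_of_le h1
    rw [Subgroup.card_map_of_injective K.subtype_injective, hA, hk] at h2
    have h3 : (5 : ℕ) ∣ 3 ^ k := (by norm_num : 5 ∣ 60).trans h2
    exact absurd (Nat.prime_five.dvd_of_dvd_pow h3) (by norm_num)

/-- A three-cycle generating a normal subgroup. -/
theorem quotient_of_normal_three (ψ : Q →* Perm (Fin 8)) (hψ : Function.Injective ψ)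
    (hA : ∀ q, ψ q ∈ alternatingGroup (Fin 8)) (hns : ¬ Group.IsSolvable Q) (x : Q) (hx : orderOf x = 3)
    [hR : (Subgroup.zpowers x).Normal] (h3 : (ψ x).support.card = 3) :
    Nat.card (Cfsg.pCore 3 Q) = 3 ∧ (Nonempty (Q ⧸ Cfsg.pCore 3 Q ≃* alternatingGroup (Fin 5)) ∨
      Nonempty (Q ⧸ Cfsg.pCore 3 Q ≃* Perm (Fin 5))) := by
  classical
  haveI : Fact (Nat.Prime 3) := ⟨Nat.prime_three⟩
  set R := Subgroup.zpowers x
  set F := (ψ x).support with hF
  have hpres : ∀ q z, ψ q z ∈ F ↔ z ∈ F := by
    intro q z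
    have hm : q * x * q⁻¹ ∈ R := hR.conj_mem x (Subgroup.mem_zpowers x) q
    obtain ⟨k, hk⟩ := Subgroup.mem_zpowers_iff.1 hm
    have hs : (ψ q * ψ x * (ψ q)⁻¹).support = F := by
      refine Finset.eq_of_subset_of_card_le ?_ (by rw [Perm.support_conj, Finset.card_map])
      rw [← map_inv, ← map_mul, ← map_mul, ← hk, map_zpow]
      exact Perm.support_zpow_le _ _
    conv_lhs => rw [← hs, Perm.mem_support]
    rw [hF, Perm.mem_support]
    simp
  let r : Q →* Perm {z // z ∉ F} :=
    { toFun := fun q => Perm.subtypePerm (ψ q) fun z => not_congr (hpres q z)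
      map_one' := Equiv.ext fun z => Subtype.ext (by show ψ 1 (z : Fin 8) = z; rw [map_one]; rfl)
      map_mul' := fun a b => Equiv.ext fun z => Subtype.ext (by
        show ψ (a * b) (z : Fin 8) = ψ a (ψ b z); rw [map_mul]; rfl) }
  have hRker : R ≤ r.ker := Subgroup.zpowers_le.2 (MonoidHom.mem_ker.2 (Equiv.ext fun z => Subtype.ext
    (Perm.notMem_support.1 z.2)))
  have hkerR : r.ker = R := by
    refine (Subgroup.eq_of_le_of_card_ge hRker ?_).symm
    rw [Nat.card_zpowers, hx]
    have hfix : ∀ (q : r.ker) z, z ∉ F → ψ q z = z := fun q z hz =>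
      congrArg (fun σ : Perm {z // z ∉ F} => ((σ ⟨z, hz⟩ : {z // z ∉ F}) : Fin 8)) (MonoidHom.mem_ker.1 q.2)
    let rF : r.ker →* Perm {z // z ∈ F} :=
      { toFun := fun q => Perm.subtypePerm (ψ q) fun z => hpres q z
        map_one' := Equiv.ext fun z => Subtype.ext (by show ψ 1 (z : Fin 8) = z; rw [map_one]; rfl)
        map_mul' := fun a b => Equiv.ext fun z => Subtype.ext (by
          show ψ ((a : Q) * b) (z : Fin 8) = ψ a (ψ b z); rw [map_mul]; rfl) }
    have hsign : ∀ q : r.ker, Perm.sign (rF q) = 1 := by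
      intro q
      show Perm.sign (Perm.subtypePerm (ψ q) fun z => hpres q z) = 1
      have hzF : ∀ z, ψ (q : Q) z ≠ z → z ∈ F := fun z hz => by
        by_contra h
        exact hz (hfix q z h)
      convert (Perm.sign_subtypePerm (p := fun z => z ∈ F) (ψ (q : Q)) (fun z => hpres q z) hzF).trans
        (Perm.mem_alternatingGroup.1 (hA q))
    refine le_trans (Nat.card_le_card_of_injective
      (fun q => (⟨rF q, Perm.mem_alternatingGroup.2 (hsign q)⟩ : alternatingGroup {z // z ∈ F})) ?_) ?_
    · intro a b hab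
      refine Subtype.ext (hψ (Equiv.ext fun z => ?_))
      by_cases hz : z ∈ F
      · exact congrArg (fun σ : alternatingGroup {z // z ∈ F} =>
          (((σ : Perm {z // z ∈ F}) ⟨z, hz⟩ : {z // z ∈ F}) : Fin 8)) hab
      · rw [hfix a z hz, hfix b z hz]
    · have hcF : Fintype.card {z // z ∈ F} = 3 := (Fintype.card_coe F).trans h3
      haveI : Nontrivial {z // z ∈ F} := Fintype.one_lt_card_iff_nontrivial.1 (by omega)
      have h := two_mul_nat_card_alternatingGroup (α := {z // z ∈ F})
      rw [Nat.card_perm, Nat.card_eq_fintype_card (α := {z // z ∈ F}), hcF,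
        show Nat.factorial 3 = 6 from rfl] at h
      omega
  have hc5 : Fintype.card {z // z ∉ F} = 5 := by
    rw [Fintype.card_subtype_compl, Fintype.card_fin, Fintype.card_coe, hF, h3]
  let e5 : Perm {z // z ∉ F} ≃* Perm (Fin 5) := (Fintype.equivFinOfCardEq hc5).permCongrHom
  let r5 : Q →* Perm (Fin 5) := e5.toMonoidHom.comp r
  have hker5 : r5.ker = R := by
    rw [← hkerR]
    ext q
    exact ⟨fun h => e5.injective (h.trans (map_one e5).symm),
      fun h => by show e5 (r q) = 1; rw [MonoidHom.mem_ker.1 h, map_one]⟩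
  have hRsol : Group.IsSolvable R := Group.isSolvable_of_comm fun a b => Subtype.ext <| by
    obtain ⟨i, hi⟩ := Subgroup.mem_zpowers_iff.1 a.2
    obtain ⟨j, hj⟩ := Subgroup.mem_zpowers_iff.1 b.2
    show (a : Q) * b = b * a
    rw [← hi, ← hj, ← zpow_add, ← zpow_add, add_comm]
  have hK : ¬ Group.IsSolvable r5.range := fun h => hns <|
    Group.isSolvable_of_ker_le_range R.subtype r5.rangeRestrict
      (by rw [MonoidHom.ker_rangeRestrict, hker5, Subgroup.range_subtype])
  have hle := alt_five_le r5.range hK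
  have hcore := pCore_three_eq_bot r5.range hle
  have hRp : IsPGroup 3 R := IsPGroup.of_card (n := 1) (by rw [Nat.card_zpowers, hx, pow_one])
  have hO3 : Cfsg.pCore 3 Q = R := by
    refine le_antisymm (fun q hq => ?_) (Cores.le_pCore hR hRp)
    rw [← hker5]
    have h1 := Cores.map_pCore_le r5.rangeRestrict r5.rangeRestrict_surjective 3 ⟨q, hq, rfl⟩
    rw [hcore, Subgroup.mem_bot] at h1
    exact MonoidHom.mem_ker.2 (congrArg Subtype.val h1)
  refine ⟨by rw [hO3, Nat.card_zpowers, hx], ?_⟩
  have eQ : Q ⧸ Cfsg.pCore 3 Q ≃* r5.range :=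
    (QuotientGroup.quotientMulEquivOfEq (hO3.trans hker5.symm)).trans (QuotientGroup.quotientKerEquivRange r5)
  rcases AltEightSub.eq_alternatingGroup_or_eq_top hle with h | h
  · exact Or.inl ⟨eQ.trans (MulEquiv.subgroupCongr h)⟩
  · exact Or.inr ⟨(eQ.trans (MulEquiv.subgroupCongr h)).trans Subgroup.topEquiv⟩

/-- With a nontrivial odd core, `|O_3| = 3` and the quotient is `A_5` or `S_5`. -/
theorem card_pCore_three (f : Q →* 𝔾) (hf : Function.Injective f) (hns : ¬ Group.IsSolvable Q)
    (hO : Cfsg.pPrimeCore 2 Q ≠ ⊥) :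
    Nat.card (Cfsg.pCore 3 Q) = 3 ∧ (Nonempty (Q ⧸ Cfsg.pCore 3 Q ≃* alternatingGroup (Fin 5)) ∨
      Nonempty (Q ⧸ Cfsg.pCore 3 Q ≃* Perm (Fin 5))) := by
  classical
  haveI : Fact (Nat.Prime 3) := ⟨Nat.prime_three⟩
  obtain ⟨e⟩ := S2553.nonempty_glFour_two
  let ψ : Q →* Perm (Fin 8) := ((alternatingGroup (Fin 8)).subtype.comp e.toMonoidHom).comp f
  have hψ : Function.Injective ψ := ((Subgroup.subtype_injective _).comp e.injective).comp hf
  have hd : Nat.card Q ∣ 20160 := S2553.card_glFour_two ▸ Subgroup.card_dvd_of_injective f hf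
  have hsolO : Group.IsSolvable (Cfsg.pPrimeCore 2 Q) :=
    isSolvable_of_odd_card_dvd _ _ rfl ((Subgroup.card_subgroup_dvd_card _).trans hd)
      (Cores.coprime_card_pPrimeCore 2)
  obtain ⟨p, hp, R, hRn, hR0, hRO, hRc, hRp, hRexp, -⟩ :=
    Solvable.exists_minimal_normal_pGroup (N := Cfsg.pPrimeCore 2 Q) hO
  haveI := hRn
  haveI := Fact.mk hp
  have hp2 : p ≠ 2 := by
    rintro rfl
    obtain ⟨n, hn⟩ := IsPGroup.iff_card.1 hRp
    have h1 : Nat.Coprime (2 ^ n) 2 :=
      hn ▸ (Cores.coprime_card_pPrimeCore 2).coprime_dvd_left (Subgroup.card_dvd_of_le hRO)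
    rcases Nat.eq_zero_or_pos n with rfl | hn0
    · exact hR0 (Subgroup.eq_bot_of_card_eq _ (by simpa using hn))
    · rw [Nat.coprime_pow_left_iff hn0] at h1
      norm_num at h1
  obtain ⟨n, hn⟩ := IsPGroup.iff_card.1 hRp
  have hn1 : 1 ≤ n := by
    rcases Nat.eq_zero_or_pos n with rfl | h
    · exact absurd (Subgroup.eq_bot_of_card_eq _ (by simpa using hn)) hR0
    · exact h
  have hcases : (p = 3 ∧ n ≤ 2) ∨ (p = 5 ∧ n = 1) ∨ (p = 7 ∧ n = 1) := by
    have h1 : p ^ n ∣ 2 ^ 6 * (3 ^ 2 * (5 * 7)) := by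
      rw [← hn]; exact (Subgroup.card_subgroup_dvd_card R).trans (by norm_num; exact hd)
    have h2 : p ^ n ∣ 3 ^ 2 * (5 * 7) :=
      (((Nat.coprime_primes hp Nat.prime_two).2 hp2).pow n 6).dvd_of_dvd_mul_left h1
    have h3 : p ∣ 315 := (dvd_pow_self p (by omega)).trans h2
    have hle : p ≤ 315 := Nat.le_of_dvd (by norm_num) h3
    have hpm : p ∈ Nat.divisors 315 := Nat.mem_divisors.2 ⟨h3, by norm_num⟩
    rw [show Nat.divisors 315 = {1, 3, 5, 7, 9, 15, 21, 35, 45, 63, 105, 315} from by decide +kernel] at hpm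
    simp only [Finset.mem_insert, Finset.mem_singleton] at hpm
    rcases hpm with rfl | rfl | rfl | rfl | rfl | rfl | rfl | rfl | rfl | rfl | rfl | rfl <;> (try norm_num at hp) <;> (try norm_num)
    · by_contra hh
      have : 3 ^ 3 ∣ 3 ^ 2 * (5 * 7) := (pow_dvd_pow 3 (by omega)).trans h2
      norm_num at this
    · by_contra hh
      have : 5 ^ 2 ∣ 3 ^ 2 * (5 * 7) := (pow_dvd_pow 5 (by omega)).trans h2
      norm_num at this
    · by_contra hh
      have : 7 ^ 2 ∣ 3 ^ 2 * (5 * 7) := (pow_dvd_pow 7 (by omega)).trans h2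
      norm_num at this
  -- centralizing elements of order five or seven
  have hcent : ∀ r : ℕ, r.Prime → r ∣ Nat.card Q → ¬ r ∣ Nat.card (MulAut R) →
      ∃ g : Q, orderOf g = r ∧ ∀ z ∈ R, g * z = z * g := by
    intro r hr hrQ hrA
    haveI := Fact.mk hr
    obtain ⟨g, hg⟩ := exists_prime_orderOf_dvd_card' r hrQ
    refine ⟨g, hg, fun z hz => ?_⟩
    have h1 : (MulAut.conjNormal g : MulAut R) = 1 := by
      rw [← orderOf_eq_one_iff]
      rcases (Nat.dvd_prime hr).1 (hg ▸ orderOf_map_dvd (MulAut.conjNormal : Q →* MulAut R) g) with h | h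
      · exact h
      · exact absurd (h ▸ orderOf_dvd_natCard _) hrA
    have h2 := congrArg Subtype.val (DFunLike.congr_fun h1 (⟨z, hz⟩ : R))
    simp only [MulAut.conjNormal_apply, MulAut.one_apply] at h2
    exact mul_inv_eq_iff_eq_mul.1 h2
  haveI hRcomm := hRc
  have hord : ∀ z ∈ R, z ≠ 1 → orderOf z = p := fun z hz hz1 => orderOf_eq_prime (hRexp z hz) hz1
  have hcyc : n = 1 → IsCyclic R := fun h => by
    subst h
    exact isCyclic_of_prime_card (by rw [hn, pow_one])
  have haut : n = 1 → Nat.card (MulAut R) = p - 1 := fun h => by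
    haveI := hcyc h
    rw [IsCyclic.card_mulAut, hn, h, pow_one, Nat.totient_prime hp]
  rcases hcases with ⟨rfl, hn2⟩ | ⟨rfl, rfl⟩ | ⟨rfl, rfl⟩
  · have hnot : ∀ r : ℕ, r.Prime → 5 ≤ r → ¬ r ∣ Nat.card (MulAut R) := by
      intro r hr hr5 hd'
      haveI := Fact.mk hr
      obtain ⟨a, ha⟩ := exists_prime_orderOf_dvd_card' r hd'
      have hinj : Function.Injective (MulAut.toPerm R) := fun a b h => MulEquiv.ext fun z =>
        congrArg (fun σ : Perm R => σ z) h
      have hle : orderOf a ∣ Nat.card (Perm R) :=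
        (orderOf_injective (MulAut.toPerm R) hinj a).symm ▸ orderOf_dvd_natCard _
      -- an automorphism of prime order fixing all but few points
      have hfix : 1 < Nat.card R ∧ Nat.card R ≤ 9 := by
        rw [hn]
        interval_cases n <;> norm_num
      have hmod : Nat.card R ≡ Nat.card {z : R // a z = z} [MOD r] := by
        classical
        haveI := Fintype.ofFinite R
        have h := Equiv.Perm.card_compl_support_modEq (n := 1) (σ := MulAut.toPerm R a) (p := r)
          (by rw [pow_one, ← map_pow, ← ha, pow_orderOf_eq_one, map_one])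
        rw [Nat.card_eq_fintype_card, Nat.card_eq_fintype_card]
        refine h.symm.trans ?_
        rw [Fintype.card_subtype,
          show (MulAut.toPerm R a).supportᶜ = Finset.univ.filter fun z => a z = z by ext; simp; rfl]
      let Fx : Subgroup R :=
        { carrier := {z | a z = z}
          one_mem' := map_one a
          mul_mem' := fun {u v} hu hv => by simp_all
          inv_mem' := fun {u} hu => by simp_all }
      obtain ⟨j, hjn, hj⟩ := (Nat.dvd_prime_pow Nat.prime_three).1 (hn ▸ Fx.card_subgroup_dvd_card)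
      have hjlt : j ≠ n := by
        rintro rfl
        have hF : Fx = ⊤ := Subgroup.eq_top_of_card_eq Fx (hj.trans hn.symm)
        have : a = 1 := MulEquiv.ext fun z => (hF ▸ Subgroup.mem_top z : z ∈ Fx)
        rw [this, orderOf_one] at ha
        exact hr.ne_one ha.symm
      rw [hn, show Nat.card {z : R // a z = z} = 3 ^ j from hj] at hmod
      have hd2 := (Nat.modEq_iff_dvd' (Nat.pow_le_pow_right (by norm_num) hjn)).1 hmod.symm
      have hr8 : r ≤ 8 := (Nat.le_of_dvd (Nat.sub_pos_of_lt (Nat.pow_lt_pow_right (by norm_num)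
        (lt_of_le_of_ne hjn hjlt))) hd2).trans (by
          have := Nat.pow_le_pow_right (show 0 < 3 by norm_num) hn2
          have := Nat.one_le_pow j 3 (by norm_num)
          omega)
      interval_cases r <;> (try (norm_num at hr; done)) <;> interval_cases n <;> interval_cases j <;>
        (try (norm_num at hd2; done)) <;> omega
    obtain ⟨z, hz, hz1⟩ : ∃ z ∈ R, z ≠ 1 := by
      obtain ⟨⟨z, hz⟩, hz1⟩ := Subgroup.ne_bot_iff_exists_ne_one.1 hR0
      exact ⟨z, hz, fun h => hz1 (Subtype.ext h)⟩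
    have hz3 : orderOf (ψ z) = 3 := by rw [orderOf_injective ψ hψ, hord z hz hz1]
    have h7 : ¬ 7 ∣ Nat.card Q := by
      intro h7
      obtain ⟨g, hg, hgc⟩ := hcent 7 (by norm_num) h7 (hnot 7 (by norm_num) (by norm_num))
      exact not_commute_three (g := ψ g) (by rw [orderOf_injective ψ hψ, hg]) hz3
        (by rw [← map_mul, ← map_mul, hgc z hz])
    have h5 : 5 ∣ Nat.card Q := by
      by_contra h5
      exact hns (isSolvable_of_primes hd h5 h7)
    obtain ⟨g, hg, hgc⟩ := hcent 5 Nat.prime_five h5 (hnot 5 Nat.prime_five le_rfl)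
    have hsupp : ∀ w ∈ R, w ≠ 1 → (ψ w).support.card = 3 := fun w hw hw1 =>
      support_three (g := ψ g) (by rw [orderOf_injective ψ hψ, hg])
        (by rw [orderOf_injective ψ hψ, hord w hw hw1]) (by rw [← map_mul, ← map_mul, hgc w hw])
    have hgo : orderOf (ψ g) = 5 := by rw [orderOf_injective ψ hψ, hg]
    have hgcyc : (ψ g).IsCycle := Perm.isCycle_of_prime_order' (by rw [hgo]; norm_num) (by simp [hgo])
    have hgs : (ψ g).support.card = 5 := by rw [← hgcyc.orderOf, hgo]
    -- every element of `R` lives on the three points fixed by `g`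
    have hRle : Nat.card R ≤ 3 := by
      set F : Finset (Fin 8) := (ψ g).supportᶜ
      have hF3 : F.card = 3 := by rw [Finset.card_compl, Fintype.card_fin, hgs]
      have hsub : ∀ w ∈ R, (ψ w).support ⊆ F := by
        intro w hw y hy
        rw [Finset.mem_compl]
        intro hyg
        have hcomm : ψ g * ψ w = ψ w * ψ g := by rw [← map_mul, ← map_mul, hgc w hw]
        have hcy : ψ g (ψ w y) ≠ ψ w y := fun e => Perm.mem_support.1 hyg (by
          have := congrArg (fun σ : Perm (Fin 8) => σ y) hcomm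
          simp only [Perm.mul_apply] at this
          exact (ψ w).injective (this.symm.trans e))
        -- the three moved points of `ψ w` avoid the five-cycle
        have hw1 : w ≠ 1 := fun e => by rw [e, map_one, Perm.support_one] at hy; simp at hy
        have h3 := hsupp w hw hw1
        have hstab : ∀ i : ℕ, ((ψ g) ^ i) y ∈ (ψ w).support := by
          intro i
          rw [Perm.mem_support] at hy ⊢
          intro e
          apply hy
          have hcp : Commute (ψ w) ((ψ g) ^ i) := ((show Commute (ψ g) (ψ w) from hcomm).symm).pow_right i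
          have h1 := congrArg (fun σ : Perm (Fin 8) => σ y) hcp.eq
          simp only [Perm.mul_apply] at h1
          exact ((ψ g) ^ i).injective (h1.symm.trans e)
        have hfive : (ψ g).support ⊆ (ψ w).support := by
          intro y' hy'
          obtain ⟨i, hi⟩ := hgcyc.exists_pow_eq (Perm.mem_support.1 hyg) (Perm.mem_support.1 hy')
          rw [← hi]
          exact hstab i
        have := Finset.card_le_card hfive
        omega
      have hiffF : ∀ (w : R) (y : Fin 8), ψ w y ∈ F ↔ y ∈ F := fun w y => by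
        by_cases hy : ψ w y = y
        · rw [hy]
        · exact iff_of_true (hsub w w.2 (Perm.mem_support.2 fun e => hy ((ψ w).injective e)))
            (hsub w w.2 (Perm.mem_support.2 hy))
      let rF : R →* alternatingGroup {y // y ∈ F} := MonoidHom.mk' (fun w =>
        ⟨Perm.subtypePerm (ψ w) (hiffF w), by
          rw [Perm.mem_alternatingGroup]
          convert (Perm.sign_subtypePerm (p := fun y => y ∈ F) (ψ (w : Q)) (hiffF w) fun y hy => hsub w w.2 (Perm.mem_support.2 hy)).trans
            (Perm.mem_alternatingGroup.1 (e (f w)).2)⟩) fun a b => Subtype.ext (Equiv.ext fun y => Subtype.ext (by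
            show ψ ((a : Q) * b) (y : Fin 8) = ψ a (ψ b y)
            rw [map_mul]; rfl))
      have hinj : Function.Injective rF := by
        intro a b hab
        refine Subtype.ext (hψ (Equiv.ext fun y => ?_))
        by_cases hy : y ∈ F
        · exact congrArg (fun σ : alternatingGroup {y // y ∈ F} =>
            (((σ : Perm {y // y ∈ F}) ⟨y, hy⟩ : {y // y ∈ F}) : Fin 8)) hab
        · rw [Perm.notMem_support.1 fun h => hy (hsub a a.2 h), Perm.notMem_support.1 fun h => hy (hsub b b.2 h)]
      refine (Nat.card_le_card_of_injective rF hinj).trans ?_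
      have hcF : Fintype.card {y // y ∈ F} = 3 := (Fintype.card_coe F).trans hF3
      haveI : Nontrivial {y // y ∈ F} := Fintype.one_lt_card_iff_nontrivial.1 (by omega)
      have h := two_mul_nat_card_alternatingGroup (α := {y // y ∈ F})
      rw [Nat.card_perm, Nat.card_eq_fintype_card (α := {y // y ∈ F}), hcF,
        show Nat.factorial 3 = 6 from rfl] at h
      omega
    have hRz : R = Subgroup.zpowers z := (Subgroup.eq_of_le_of_card_ge (Subgroup.zpowers_le.2 hz)
      (by rw [Nat.card_zpowers, hord z hz hz1]; exact hRle)).symm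
    haveI : (Subgroup.zpowers z).Normal := hRz ▸ hRn
    exact quotient_of_normal_three ψ hψ (fun q => (e (f q)).2) hns z (hord z hz hz1) (hsupp z hz hz1)
  · exfalso
    obtain ⟨z, hz, hz1⟩ : ∃ z ∈ R, z ≠ 1 := by
      obtain ⟨⟨z, hz⟩, hz1⟩ := Subgroup.ne_bot_iff_exists_ne_one.1 hR0
      exact ⟨z, hz, fun h => hz1 (Subtype.ext h)⟩
    by_cases h7 : 7 ∣ Nat.card Q
    · obtain ⟨g, hg, hgc⟩ := hcent 7 (by norm_num) h7 (by rw [haut rfl]; norm_num)
      exact not_orderOf_five_seven_commute (ψ g) (ψ z) (by rw [orderOf_injective ψ hψ, hg])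
        (by rw [orderOf_injective ψ hψ, hord z hz hz1]) (by rw [← map_mul, ← map_mul, hgc z hz])
    · refine hns ?_
      have hq : Group.IsSolvable (Q ⧸ R) := isSolvable_of_primes
        (((Subgroup.index_eq_card R).symm ▸ R.index_dvd_card).trans hd) (fun h5 => ?_) (fun h => h7 (h.trans
          ((Subgroup.index_eq_card R).symm ▸ R.index_dvd_card)))
      · have hRsol : Group.IsSolvable R := Group.isSolvable_of_comm fun a b => hRc.is_comm.comm a b
        exact Group.isSolvable_of_ker_le_range R.subtype (QuotientGroup.mk' R)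
          (by rw [QuotientGroup.ker_mk', Subgroup.range_subtype])
      · have h25 : 5 * 5 ∣ Nat.card Q := by
          rw [← R.card_mul_index, hn, pow_one, Subgroup.index_eq_card]
          exact Nat.mul_dvd_mul_left 5 h5
        have := h25.trans hd
        norm_num at this
  · exfalso
    have hle : (R.map f) ≤ f.range := Subgroup.map_le_range f R
    have h1 : f.range ≤ Subgroup.normalizer ((R.map f : Subgroup 𝔾) : Set 𝔾) := by
      have := Subgroup.le_normalizer_map (H := R) f
      rwa [Subgroup.normalizer_eq_top, ← MonoidHom.range_eq_map] at this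
    have h7 := S2553.card_normalizer_seven (R.map f) (by rw [Subgroup.card_map_of_injective hf, hn, pow_one])
    have h21 : Nat.card Q ∣ 21 := by
      rw [← h7, Nat.card_congr (MonoidHom.ofInjective hf).toEquiv]
      exact Subgroup.card_dvd_of_le h1
    obtain ⟨a, b, ha, hb, hab⟩ := Nat.dvd_mul.1 (show Nat.card Q ∣ 3 * 7 from h21)
    obtain ⟨i, -, rfl⟩ := (Nat.dvd_prime_pow Nat.prime_three).1 (ha.trans (pow_one 3).symm.dvd)
    obtain ⟨j, -, rfl⟩ := (Nat.dvd_prime_pow (by norm_num : Nat.Prime 7)).1 (hb.trans (pow_one 7).symm.dvd)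
    exact hns (CharApp.isSolvable_of_card_eq_prime_pow_mul 3 7 Nat.prime_three (by norm_num) _ Q rfl i j hab.symm)

/-- The nonsolvable subgroups of `GL_4(2)` without nontrivial normal 2-subgroup. -/
theorem classify (f : Q →* 𝔾) (hf : Function.Injective f) (hns : ¬ Group.IsSolvable Q)
    (hO2 : Cfsg.pCore 2 Q = ⊥) :
    (∃ n : ℕ, 5 ≤ n ∧ n ≤ 8 ∧ Nonempty (Q ≃* alternatingGroup (Fin n))) ∨
      Nonempty (Q ≃* Perm (Fin 5)) ∨ Nonempty (Q ≃* Perm (Fin 6)) ∨ Nonempty (Q ≃* GL (Fin 3) (ZMod 2)) ∨
      (Nat.card (Cfsg.pCore 3 Q) = 3 ∧ (Nonempty (Q ⧸ Cfsg.pCore 3 Q ≃* alternatingGroup (Fin 5)) ∨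
        Nonempty (Q ⧸ Cfsg.pCore 3 Q ≃* Perm (Fin 5)))) := by
  by_cases hO : Cfsg.pPrimeCore 2 Q = ⊥
  · let eQ : Q ≃* f.range := MonoidHom.ofInjective hf
    have hne : f.range ≠ ⊥ := fun h => hns (Group.isSolvable_of_comm fun a b => by
      have h1 : ∀ q : Q, q = 1 := fun q => hf (by
        have : f q ∈ f.range := ⟨q, rfl⟩
        rw [h, Subgroup.mem_bot] at this
        rw [this, map_one])
      rw [h1 a, h1 b])
    have h1 : Cfsg.pPrimeCore 2 f.range = ⊥ := by
      rw [← Cores.pPrimeCore_map_mulEquiv eQ, hO, Subgroup.map_bot]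
    have h2 : Cfsg.pCore 2 f.range = ⊥ := by
      rw [← Cores.pCore_map_mulEquiv eQ, hO2, Subgroup.map_bot]
    rcases S2553.result f.range hne h1 h2 with ⟨n, h5, h8, ⟨e⟩⟩ | ⟨⟨e⟩⟩ | ⟨⟨e⟩⟩ | ⟨⟨e⟩⟩
    · exact Or.inl ⟨n, h5, h8, ⟨eQ.trans e⟩⟩
    · exact Or.inr (Or.inl ⟨eQ.trans e⟩)
    · exact Or.inr (Or.inr (Or.inl ⟨eQ.trans e⟩))
    · exact Or.inr (Or.inr (Or.inr (Or.inl ⟨eQ.trans e⟩)))
  · exact Or.inr (Or.inr (Or.inr (Or.inr (card_pCore_three f hf hns hO))))

end Cfsg.Agent.RankFour
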