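import Cfsg.Agent.Lib.Constrained.Basic
import Cfsg.Agent.Lib.Coprime.Frattini
import Cfsg.Agent.Lib.BurnsideBasis.Basic
import Cfsg.Agent.Lib.GLOrder.Basic
import Cfsg.Agent.Lib.Transfer.Residual

/-!
The action of a 2-constrained group on the Frattini quotient of `O_2` when the latter has rank at most four
(namespace `Cfsg.Agent.RankFour`).

* `FrattiniRep`, `exists_frattiniRep`: the representation in `GL_4(2)` and the map `O_2 → F_2^4`
* `FrattiniRep.surjective_of_card`: the map is onto if `|X / O_2| > 512`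
-/

set_option autoImplicit false
open Cfsg

namespace Cfsg.Agent.RankFour

local notation "𝔾" => GL (Fin 4) (ZMod 2)
local notation "V4" => (Fin 4 → ZMod 2)

theorem unit_zmod_two : ∀ x y : ZMod 2, x * y = 1 → x = 1 := by decide

/-- The representation on the Frattini quotient of `O_2`, padded to dimension four. -/
structure FrattiniRep (X : Type*) [Group X] where
  f : X →* 𝔾
  ker_f : f.ker = Cfsg.pCore 2 X
  π : ↥(Cfsg.pCore 2 X) → V4
  π_mul : ∀ x y, π (x * y) = π x + π y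
  π_eq_zero : ∀ x, π x = 0 ↔ x ∈ frattini ↥(Cfsg.pCore 2 X)
  π_conj : ∀ (g : X) (x y : ↥(Cfsg.pCore 2 X)), (y : X) = g * x * g⁻¹ → π y = Matrix.mulVec (f g).val (π x)
  faithful : ∀ g, (∀ x, Matrix.mulVec (f g).val (π x) = π x) → f g = 1

/-- Existence of the representation. -/
theorem exists_frattiniRep {X : Type*} [Group X] [Finite X] (hc : Cfsg.IsPConstrained 2 X)
    (hO : Cfsg.oddCore X = ⊥) (h4 : Cfsg.SectionalPRankLE 2 4 ↥(Cfsg.pCore 2 X)) :
    Nonempty (FrattiniRep X) := by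
  classical
  haveI : Fact (Nat.Prime 2) := ⟨Nat.prime_two⟩
  set Q := Cfsg.pCore 2 X
  haveI : Q.Normal := Cores.pCore_normal 2 X
  have hQ : IsPGroup 2 Q := Cores.isPGroup_pCore 2 X
  have hchar : Subgroup.centralizer (Q : Set X) ≤ Q := by
    have e : Cfsg.pPrimeCore 2 X = ⊥ := hO
    exact Constrained.isCharP_congr ((QuotientGroup.quotientMulEquivOfEq e).trans QuotientGroup.quotientBot)
      (Constrained.isPConstrained_iff.1 hc)
  set F := frattini Q
  letI : CommGroup (Q ⧸ F) := { mul_comm := BurnsideBasis.quotient_mul_comm hQ }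
  have hsq : ∀ v : Q ⧸ F, v ^ 2 = 1 := fun v => by
    obtain ⟨x, rfl⟩ := QuotientGroup.mk_surjective v
    rw [← QuotientGroup.mk_pow]
    exact (QuotientGroup.eq_one_iff _).2 (BurnsideBasis.pow_mem_frattini hQ x)
  -- the order of the Frattini quotient
  have hcard : Nat.card (Q ⧸ F) ≤ 2 ^ 4 := by
    have h := h4 (⊤ : Subgroup Q) (F.subgroupOf ⊤) (⊤ : Subgroup (↥(⊤ : Subgroup Q) ⧸ F.subgroupOf ⊤))
      ⟨⟨fun a b => Subtype.ext ?_⟩⟩ fun a _ => ?_
    · rw [Subgroup.card_top] at h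
      rw [← Subgroup.index_eq_card] at h ⊢
      have h2 : (F.subgroupOf ⊤).index = F.index := F.relIndex_top_right
      omega
    · obtain ⟨x, hx⟩ := QuotientGroup.mk_surjective (a : ↥(⊤ : Subgroup Q) ⧸ F.subgroupOf ⊤)
      obtain ⟨y, hy⟩ := QuotientGroup.mk_surjective (b : ↥(⊤ : Subgroup Q) ⧸ F.subgroupOf ⊤)
      show (a : ↥(⊤ : Subgroup Q) ⧸ F.subgroupOf ⊤) * b = b * a
      rw [← hx, ← hy, ← QuotientGroup.mk_mul, ← QuotientGroup.mk_mul, QuotientGroup.eq, Subgroup.mem_subgroupOf,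
        Subgroup.coe_mul, Subgroup.coe_inv, ← QuotientGroup.eq]
      exact mul_comm (QuotientGroup.mk (x : Q) : Q ⧸ F) (QuotientGroup.mk (y : Q))
    · obtain ⟨x, rfl⟩ := QuotientGroup.mk_surjective a
      rw [← QuotientGroup.mk_pow, QuotientGroup.eq_one_iff, Subgroup.mem_subgroupOf, SubgroupClass.coe_pow]
      exact BurnsideBasis.pow_mem_frattini hQ _
  -- the action
  letI : Module (ZMod 2) (Additive (Q ⧸ F)) := AddCommGroup.zmodModule (n := 2) fun v =>
    congrArg Additive.ofMul (hsq (Additive.toMul v))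
  let c : X →* MulAut Q := MulAut.conjNormal
  have hF : ∀ g, F.map (c g).toMonoidHom = F := fun g =>
    Subgroup.characteristic_iff_map_eq.1 inferInstance _
  let θ : X → (Q ⧸ F) ≃* (Q ⧸ F) := fun g => QuotientGroup.congr F F (c g) (hF g)
  have hθ : ∀ g (x : Q), θ g (x : Q ⧸ F) = (QuotientGroup.mk (c g x) : Q ⧸ F) := fun _ _ => rfl
  let ρ : X →* Module.End (ZMod 2) (Additive (Q ⧸ F)) :=
    { toFun := fun g => (θ g).toMonoidHom.toAdditive.toZModLinearMap 2
      map_one' := LinearMap.ext fun v => by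
        obtain ⟨x, hx⟩ := QuotientGroup.mk_surjective (Additive.toMul v)
        show Additive.ofMul (θ 1 (Additive.toMul v)) = v
        rw [← hx, hθ, map_one]
        show Additive.ofMul (x : Q ⧸ F) = v
        rw [hx]; rfl
      map_mul' := fun g h => LinearMap.ext fun v => by
        obtain ⟨x, hx⟩ := QuotientGroup.mk_surjective (Additive.toMul v)
        show Additive.ofMul (θ (g * h) (Additive.toMul v)) = Additive.ofMul (θ g (θ h (Additive.toMul v)))
        rw [← hx, hθ, hθ, hθ, map_mul]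
        rfl }
  set K := ρ.ker
  have hKQ : K = Q := by
    refine le_antisymm (Cores.le_pCore inferInstance fun g => ?_) fun g hg => ?_
    · obtain ⟨a, b, hab, -, hb, ⟨k, hk⟩, hodd⟩ := Transfer.exists_pPart_mul (p := 2) (g : X)
      have hbK : b ∈ K := Subgroup.zpowers_le.2 g.2 hb
      have hb1 : b ∈ Q := by
        refine hchar (Coprime.le_centralizer_of_forall_mem_frattini (A := Subgroup.zpowers b) (K := Q)
          ((Subgroup.normalizer_eq_top_iff.2 (inferInstance : Q.Normal)).ge.trans' le_top) ?_ ?_ (Subgroup.mem_zpowers b))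
        · obtain ⟨i, hi⟩ := IsPGroup.iff_card.1 (hQ.to_subgroup (frattini Q))
          rw [Nat.card_zpowers, hi]
          exact hodd.pow_right i
        · intro a' ha' x hx
          have hK' : ρ a' = 1 := (Subgroup.zpowers_le.2 hbK ha' : a' ∈ K)
          have h1 : θ a' ((⟨x, hx⟩ : Q) : Q ⧸ F) = ((⟨x, hx⟩ : Q) : Q ⧸ F) :=
            congrArg Additive.toMul (LinearMap.congr_fun hK' (Additive.ofMul ((⟨x, hx⟩ : Q) : Q ⧸ F)))
          rw [hθ] at h1
          exact ⟨c a' ⟨x, hx⟩ * (⟨x, hx⟩ : Q)⁻¹, (QuotientGroup.eq_one_iff _).1 (by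
            rw [QuotientGroup.mk_mul, h1, QuotientGroup.mk_inv, mul_inv_cancel]), rfl⟩
      obtain ⟨j, hj⟩ := hQ ⟨b, hb1⟩
      have hb2 : b = 1 := by
        have h3 := (pow_gcd_eq_one (a := b)).2 ⟨pow_orderOf_eq_one b, congrArg Subtype.val hj⟩
        rwa [Nat.coprime_iff_gcd_eq_one.1 (hodd.pow_right j), pow_one] at h3
      refine ⟨k, Subtype.ext ?_⟩
      show (g : X) ^ 2 ^ k = 1
      rw [hab, hb2, mul_one, ← hk, pow_orderOf_eq_one]
    · refine LinearMap.ext fun v => ?_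
      obtain ⟨x, hx⟩ := QuotientGroup.mk_surjective (Additive.toMul v)
      show Additive.ofMul (θ g (Additive.toMul v)) = v
      rw [← hx, hθ]
      show Additive.ofMul (((⟨g, hg⟩ : Q) * x * (⟨g, hg⟩ : Q)⁻¹ : Q) : Q ⧸ F) = v
      rw [QuotientGroup.mk_mul, QuotientGroup.mk_mul, QuotientGroup.mk_inv,
        mul_comm ((⟨g, hg⟩ : Q) : Q ⧸ F), mul_inv_cancel_right, hx]
      rfl
  obtain ⟨ρ₁, hρ₁, hρ₁g⟩ : ∃ ρ₁ : X ⧸ Q →* Module.End (ZMod 2) (Additive (Q ⧸ F)), Function.Injective ρ₁ ∧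
      ∀ g : X, ρ₁ (g : X ⧸ Q) = ρ g := by
    refine ⟨QuotientGroup.lift Q ρ hKQ.ge, fun g h hgh => ?_, fun g => rfl⟩
    obtain ⟨g, rfl⟩ := QuotientGroup.mk_surjective g
    obtain ⟨h, rfl⟩ := QuotientGroup.mk_surjective h
    have h1 : ρ g = ρ h := hgh
    have h2 : g⁻¹ * h ∈ K := by
      show ρ (g⁻¹ * h) = 1
      rw [map_mul, ← h1, ← map_mul, inv_mul_cancel, map_one]
    exact QuotientGroup.eq.2 (hKQ.le h2)
  set d := Module.finrank (ZMod 2) (Additive (Q ⧸ F))
  have hd : d ≤ 4 := by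
    have h := Module.natCard_eq_pow_finrank (K := ZMod 2) (V := Additive (Q ⧸ F))
    rw [Nat.card_zmod, show Nat.card (Additive (Q ⧸ F)) = Nat.card (Q ⧸ F) from rfl] at h
    rw [h] at hcard
    exact (Nat.pow_le_pow_iff_right (by norm_num)).1 hcard
  let L : (Additive (Q ⧸ F) × (Fin (4 - d) → ZMod 2)) ≃ₗ[ZMod 2] (Fin 4 → ZMod 2) :=
    LinearEquiv.ofFinrankEq _ _ (by rw [Module.finrank_prod, Module.finrank_fin_fun, Module.finrank_fin_fun]; omega)
  let ρ₂ : X ⧸ Q →* Matrix (Fin 4) (Fin 4) (ZMod 2) :=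
    { toFun := fun g => LinearMap.toMatrix' (L.conj ((ρ₁ g).prodMap LinearMap.id))
      map_one' := by
        rw [map_one, show LinearMap.prodMap (1 : Module.End (ZMod 2) (Additive (Q ⧸ F)))
          (LinearMap.id : Module.End (ZMod 2) (Fin (4 - d) → ZMod 2)) = LinearMap.id from
            LinearMap.ext fun x => rfl, LinearEquiv.conj_id, LinearMap.toMatrix'_id]
      map_mul' := fun g h => by
        rw [← LinearMap.toMatrix'_comp, ← LinearEquiv.conj_comp, map_mul]
        rfl }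
  let ρ₃ : X →* 𝔾 := (MonoidHom.toHomUnits ρ₂).comp (QuotientGroup.mk' Q)
  have hv : ∀ g : X, (ρ₃ g).val = ρ₂ (g : X ⧸ Q) := fun g => rfl
  let π : Q → V4 := fun x => L (Additive.ofMul (x : Q ⧸ F), 0)
  have hπ : ∀ (g : X) (x : Q), Matrix.mulVec (ρ₃ g).val (π x) = L (ρ g (Additive.ofMul (x : Q ⧸ F)), 0) := by
    intro g x
    rw [hv]
    show Matrix.mulVec (LinearMap.toMatrix' (L.conj ((ρ₁ (g : X ⧸ Q)).prodMap LinearMap.id))) _ = _
    rw [LinearMap.toMatrix'_mulVec, LinearEquiv.conj_apply_apply, LinearEquiv.symm_apply_apply,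
      LinearMap.prodMap_apply, hρ₁g]
    rfl
  refine ⟨⟨ρ₃, ?_, π, fun x y => ?_, fun x => ?_, fun g x y hy => ?_, fun g hg => ?_⟩⟩
  · refine le_antisymm (fun g hg => ?_) fun g hg => ?_
    · have h1 : ρ₂ (g : X ⧸ Q) = ρ₂ 1 := (congrArg Units.val (MonoidHom.mem_ker.1 hg)).trans (map_one ρ₂).symm
      have h2 := L.conj.injective (LinearMap.toMatrix'.injective h1)
      exact (QuotientGroup.eq_one_iff g).1 (hρ₁ (LinearMap.ext fun v =>
        congrArg Prod.fst (LinearMap.congr_fun h2 (v, 0))))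
    · refine MonoidHom.mem_ker.2 (Units.ext ?_)
      rw [hv, (QuotientGroup.eq_one_iff g).2 hg, map_one]
      rfl
  · show L (Additive.ofMul ((x * y : Q) : Q ⧸ F), 0) = L _ + L _
    rw [← map_add, Prod.mk_add_mk, add_zero]
    rfl
  · show L _ = 0 ↔ _
    rw [LinearEquiv.map_eq_zero_iff, Prod.mk_eq_zero, and_iff_left rfl, ofMul_eq_zero, QuotientGroup.eq_one_iff]
  · rw [hπ]
    show L _ = L _
    congr 2
    show Additive.ofMul ((y : Q) : Q ⧸ F) = Additive.ofMul (θ g (x : Q ⧸ F))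
    rw [hθ]
    congr 2
    exact Subtype.ext hy
  · refine MonoidHom.mem_ker.1 (show g ∈ ρ₃.ker from ?_)
    refine MonoidHom.mem_ker.2 (Units.ext ?_)
    have hg1 : ρ g = 1 := LinearMap.ext fun v => by
      obtain ⟨x, hx⟩ := QuotientGroup.mk_surjective (Additive.toMul v)
      have h1 := (hπ g x).symm.trans (hg x)
      have h2 := congrArg Prod.fst (L.injective h1)
      rw [show Additive.ofMul (x : Q ⧸ F) = v from congrArg Additive.ofMul hx] at h2
      exact h2
    rw [hv, (QuotientGroup.eq_one_iff g).2 (hKQ.le (show g ∈ K from hg1)), map_one]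
    rfl

theorem FrattiniRep.π_one {X : Type*} [Group X] (R : FrattiniRep X) : R.π 1 = 0 :=
  (R.π_eq_zero 1).2 (one_mem _)

theorem FrattiniRep.π_inv {X : Type*} [Group X] (R : FrattiniRep X) (x : ↥(Cfsg.pCore 2 X)) :
    R.π x⁻¹ = R.π x := by
  have h := R.π_mul x x⁻¹
  rw [mul_inv_cancel, R.π_one] at h
  exact (CharTwo.add_eq_zero.1 h.symm).symm

/-- A quotient of order more than `512` forces four dimensions. -/
theorem FrattiniRep.surjective_of_card {X : Type*} [Group X] [Finite X] (R : FrattiniRep X)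
    (h : 512 < Nat.card R.f.range) : Function.Surjective R.π := by
  classical
  let S : Submodule (ZMod 2) V4 := Submodule.span (ZMod 2) (Set.range R.π)
  suffices hS : S = ⊤ by
    let I : AddSubgroup V4 :=
      { carrier := Set.range R.π
        zero_mem' := ⟨1, R.π_one⟩
        add_mem' := by rintro _ _ ⟨x, rfl⟩ ⟨y, rfl⟩; exact ⟨x * y, R.π_mul x y⟩
        neg_mem' := by rintro _ ⟨x, rfl⟩; exact ⟨x, (ZModModule.neg_eq_self _).symm⟩ }
    have hle : S ≤ I.toZModSubmodule 2 := Submodule.span_le.2 fun v hv => hv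
    intro v
    exact hle (hS.symm ▸ Submodule.mem_top : v ∈ S)
  by_contra hne
  have hfin : Module.finrank (ZMod 2) S ≤ 3 := by
    have h1 := Submodule.finrank_lt hne
    rw [Module.finrank_fin_fun] at h1
    omega
  have hmap : ∀ (m : R.f.range) (v : V4), v ∈ S → Matrix.mulVec (m : 𝔾).val v ∈ S := by
    rintro ⟨_, g, rfl⟩ v hv
    have h1 : S ≤ S.comap (Matrix.mulVecLin (R.f g).val) := by
      refine Submodule.span_le.2 ?_
      rintro _ ⟨x, rfl⟩
      have hn : ((⟨g * x * g⁻¹, (Cores.pCore_normal 2 X).conj_mem x x.2 g⟩ : ↥(Cfsg.pCore 2 X)) : X) =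
          g * x * g⁻¹ := rfl
      show Matrix.mulVec (R.f g).val (R.π x) ∈ S
      rw [← R.π_conj g x _ hn]
      exact Submodule.subset_span ⟨_, rfl⟩
    exact h1 hv
  let r : R.f.range → (S →ₗ[ZMod 2] S) := fun m => (Matrix.mulVecLin (m : 𝔾).val).restrict fun v hv => hmap m v hv
  have hr : Function.Injective r := by
    intro a b hab
    have h1 : ∀ x, Matrix.mulVec (a : 𝔾).val (R.π x) = Matrix.mulVec (b : 𝔾).val (R.π x) := fun x =>
      congrArg (fun l : S →ₗ[ZMod 2] S => ((l ⟨R.π x, Submodule.subset_span ⟨x, rfl⟩⟩ : S) : V4)) hab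
    obtain ⟨g, hg⟩ := (b⁻¹ * a).2
    have h2 : R.f g = 1 := R.faithful g fun x => by
      rw [hg, Subgroup.coe_mul, Subgroup.coe_inv, Units.val_mul, ← Matrix.mulVec_mulVec, h1 x,
        Matrix.mulVec_mulVec, ← Units.val_mul, inv_mul_cancel, Units.val_one, Matrix.one_mulVec]
    exact (inv_mul_eq_one.1 (Subtype.ext (hg.symm.trans h2) : b⁻¹ * a = 1)).symm
  haveI : Finite (S →ₗ[ZMod 2] S) := Finite.of_injective (fun l => (l : S → S)) DFunLike.coe_injective
  have hcard := Nat.card_le_card_of_injective r hr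
  rw [Module.natCard_eq_pow_finrank (K := ZMod 2) (V := S →ₗ[ZMod 2] S), Module.finrank_linearMap,
    Nat.card_zmod] at hcard
  have : 2 ^ (Module.finrank (ZMod 2) S * Module.finrank (ZMod 2) S) ≤ 2 ^ 9 :=
    Nat.pow_le_pow_right (by norm_num) (by nlinarith)
  omega

end Cfsg.Agent.RankFour
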