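import Cfsg.Agent.Lib.RankFour.SixSub
import Cfsg.Agent.Lib.RankFour.Frattini

/-!
A section of rank five over `S_6` (namespace `Cfsg.Agent.RankFour`).

* `false_of_six_sub`: `X / O_2(X)` has no subgroup `S_6` if `X` has sectional 2-rank at most four
-/

set_option autoImplicit false
open Cfsg

namespace Cfsg.Agent.RankFour

local notation "𝔾" => GL (Fin 4) (ZMod 2)
local notation "V4" => (Fin 4 → ZMod 2)

variable {X : Type*} [Group X] [Finite X]

theorem FrattiniRep.conj_mem (R : FrattiniRep X) (g : X) (x : ↥(Cfsg.pCore 2 X)) :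
    g * (x : X) * g⁻¹ ∈ Cfsg.pCore 2 X :=
  (Cores.pCore_normal 2 X).conj_mem x x.2 g

/-- Sectional rank four excludes `S_6`. -/
theorem false_of_six_sub (R : FrattiniRep X) (h4 : Cfsg.SectionalPRankLE 2 4 X) (H : Subgroup 𝔾)
    (hH : H ≤ R.f.range) (eH : Equiv.Perm (Fin 6) ≃* H) : False := by
  classical
  haveI : Fact (Nat.Prime 2) := ⟨Nat.prime_two⟩
  obtain ⟨D⟩ := sixData_of_perm H eH
  have hsurj : Function.Surjective R.π := by
    refine R.surjective_of_card ?_
    have h720 : Nat.card H = 720 := by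
      rw [← Nat.card_congr eH.toEquiv, Nat.card_perm, Nat.card_fin]; rfl
    have := Subgroup.card_le_of_le hH
    omega
  set O := Cfsg.pCore 2 X
  haveI : O.Normal := Cores.pCore_normal 2 X
  have hc2 : ∀ c : ZMod 2 × ZMod 2 × ZMod 2, c + c = 0 := fun c => by
    ext <;> exact CharTwo.add_self_eq_zero _
  have helsq : ∀ c, D.el c * D.el c = D.el 0 := fun c => by
    rw [D.el_mul, hc2]
  have hel0 : D.el 0 = 1 := by
    have h := D.el_mul 0 0
    rw [add_zero] at h
    exact mul_left_cancel (h.trans (mul_one _).symm)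
  let Esub : Subgroup 𝔾 :=
    { carrier := Set.range D.el
      one_mem' := ⟨0, hel0⟩
      mul_mem' := by rintro _ _ ⟨c, rfl⟩ ⟨d, rfl⟩; exact ⟨c + d, (D.el_mul c d).symm⟩
      inv_mem' := by
        rintro _ ⟨c, rfl⟩
        exact ⟨c, (inv_eq_of_mul_eq_one_right ((helsq c).trans hel0)).symm⟩ }
  let M : Subgroup X := Esub.comap R.f
  have hOM : O ≤ M := fun x hx => by
    show R.f x ∈ Esub
    rw [show R.f x = 1 from MonoidHom.mem_ker.1 (R.ker_f.symm ▸ hx)]
    exact one_mem _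
  let WO : Subgroup O :=
    { carrier := {x | R.π x ∈ D.W}
      one_mem' := by show R.π 1 ∈ D.W; rw [R.π_one]; exact zero_mem _
      mul_mem' := by intro a b ha hb; show R.π (a * b) ∈ D.W; rw [R.π_mul]; exact add_mem ha hb
      inv_mem' := by intro a ha; show R.π a⁻¹ ∈ D.W; rw [R.π_inv]; exact ha }
  let K : Subgroup M := (WO.map O.subtype).subgroupOf M
  have hKmem : ∀ (x : O) (hx : (x : X) ∈ M), (⟨(x : X), hx⟩ : M) ∈ K ↔ R.π x ∈ D.W := by
    intro x hx
    constructor
    · rintro ⟨y, hy, hyx⟩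
      rw [show y = x from Subtype.ext hyx] at hy
      exact hy
    · exact fun h => ⟨x, h, rfl⟩
  haveI hKn : K.Normal := ⟨fun k hk m => by
    obtain ⟨x, hx, hxk⟩ := hk
    obtain ⟨c, hc⟩ := m.2
    refine ⟨⟨(m : X) * x * (m : X)⁻¹, R.conj_mem m x⟩, ?_, ?_⟩
    · show R.π _ ∈ D.W
      rw [R.π_conj (m : X) x _ rfl, ← hc]
      have h1 := D.image c (R.π x)
      have h2 := add_mem h1 (show R.π x ∈ D.W from hx)
      rwa [add_assoc, ZModModule.add_self, add_zero] at h2
    · show (m : X) * x * (m : X)⁻¹ = _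
      rw [show (x : X) = (k : X) from hxk]
      rfl⟩
  -- squares
  have hsq : ∀ m : M, m ^ 2 ∈ K := by
    intro m
    obtain ⟨c, hc⟩ := m.2
    have hfm2 : (m : X) ^ 2 ∈ O := by
      show _ ∈ Cfsg.pCore 2 X
      rw [← R.ker_f, MonoidHom.mem_ker, map_pow, ← hc, pow_two, helsq, hel0]
    set s : O := ⟨(m : X) ^ 2, hfm2⟩
    suffices hs : R.π s ∈ D.W by
      have := (hKmem s (hOM s.2)).2 hs
      convert this using 1
      exact Subtype.ext rfl
    rcases eq_or_ne c 0 with rfl | hc0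
    · have hmO : (m : X) ∈ O := by
        show _ ∈ Cfsg.pCore 2 X
        rw [← R.ker_f, MonoidHom.mem_ker, ← hc, hel0]
      have e : s = (⟨(m : X), hmO⟩ : O) * ⟨(m : X), hmO⟩ := Subtype.ext (pow_two _)
      rw [e, R.π_mul, ZModModule.add_self]
      exact zero_mem _
    obtain ⟨y, hyH, hycomm, hyfix⟩ := D.fixed c hc0
    obtain ⟨Y, rfl⟩ := hH hyH
    have hfix : Matrix.mulVec (D.el c).val (R.π s) = R.π s := by
      rw [hc, ← R.π_conj (m : X) s s (show (m : X) ^ 2 = (m : X) * (m : X) ^ 2 * (m : X)⁻¹ by group)]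
    refine hyfix _ hfix ?_
    -- the conjugate lift
    have hxO : (m : X)⁻¹ * (Y * m * Y⁻¹) ∈ O := by
      show _ ∈ Cfsg.pCore 2 X
      rw [← R.ker_f, MonoidHom.mem_ker, map_mul, map_inv, map_mul, map_mul, map_inv, ← hc, hycomm]
      group
    set x : O := ⟨(m : X)⁻¹ * (Y * m * Y⁻¹), hxO⟩
    refine ⟨R.π x, ?_⟩
    have h1 := R.π_conj Y s ⟨Y * (m : X) ^ 2 * Y⁻¹, R.conj_mem Y s⟩ rfl
    have e : (⟨Y * (m : X) ^ 2 * Y⁻¹, R.conj_mem Y s⟩ : O) =
        s * ⟨(m : X)⁻¹ * x * ((m : X)⁻¹)⁻¹, R.conj_mem _ x⟩ * x := by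
      apply Subtype.ext
      simp only [Subgroup.coe_mul, s, x, pow_two]
      group
    rw [e, R.π_mul, R.π_mul, R.π_conj (m : X)⁻¹ x ⟨(m : X)⁻¹ * x * ((m : X)⁻¹)⁻¹, R.conj_mem _ x⟩ rfl, map_inv, ← hc,
      inv_eq_of_mul_eq_one_right ((helsq c).trans hel0)] at h1
    rw [← h1]
    simp only [add_comm, add_left_comm, ZModModule.add_self, add_zero]
  -- the section
  have hcomm : ∀ a b : M ⧸ K, a * b = b * a := by
    have h2 : ∀ a : M ⧸ K, a * a = 1 := fun a => by
      obtain ⟨m, rfl⟩ := QuotientGroup.mk_surjective a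
      rw [← QuotientGroup.mk_mul, ← pow_two, QuotientGroup.eq_one_iff]
      exact hsq m
    intro a b
    calc a * b = a⁻¹ * b⁻¹ := by rw [inv_eq_of_mul_eq_one_right (h2 a), inv_eq_of_mul_eq_one_right (h2 b)]
      _ = (b * a)⁻¹ := (mul_inv_rev b a).symm
      _ = b * a := inv_eq_of_mul_eq_one_right (h2 (b * a))
  have hle := h4 M K (⊤ : Subgroup (M ⧸ K)) ⟨⟨fun a b => Subtype.ext (hcomm a b)⟩⟩ fun a _ => by
    obtain ⟨m, rfl⟩ := QuotientGroup.mk_surjective a
    rw [← QuotientGroup.mk_pow, QuotientGroup.eq_one_iff]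
    exact hsq m
  rw [Subgroup.card_top] at hle
  -- its order
  let rep : (ZMod 2 × ZMod 2 × ZMod 2) × (V4 ⧸ D.W) → M ⧸ K := fun p =>
    QuotientGroup.mk (⟨Classical.choose (hH (D.el_mem p.1)) * ((Classical.choose (hsurj p.2.out) : O) : X),
      by
        show R.f _ ∈ Esub
        rw [map_mul, Classical.choose_spec (hH (D.el_mem p.1)),
          show R.f ((Classical.choose (hsurj p.2.out) : O) : X) = 1 from
            MonoidHom.mem_ker.1 (R.ker_f.symm ▸ (Classical.choose (hsurj p.2.out) : O).2), mul_one]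
        exact ⟨p.1, rfl⟩⟩ : M)
  have hinj : Function.Injective rep := by
    rintro ⟨c, v⟩ ⟨d, w⟩ hpq
    obtain ⟨z, hz, hzx⟩ := QuotientGroup.eq.1 hpq
    have hvc := Classical.choose_spec (hH (D.el_mem c))
    have hwd := Classical.choose_spec (hH (D.el_mem d))
    set gc := Classical.choose (hH (D.el_mem c))
    set gd := Classical.choose (hH (D.el_mem d))
    set xv : O := Classical.choose (hsurj v.out)
    set xw : O := Classical.choose (hsurj w.out)
    have hzX : (z : X) = (gc * (xv : X))⁻¹ * (gd * (xw : X)) := hzx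
    have hcd : c = d := by
      have h1 := congrArg R.f hzX
      have hk : ∀ o : O, R.f (o : X) = 1 := fun o => MonoidHom.mem_ker.1 (R.ker_f.symm ▸ o.2)
      rw [map_mul, map_inv, map_mul, map_mul, hk, hk, hk, mul_one, mul_one, hvc, hwd] at h1
      exact D.el_inj (inv_mul_eq_one.1 h1.symm)
    subst hcd
    have hzeq : z = xv⁻¹ * xw := Subtype.ext (by
      rw [hzX]
      show _ = (xv : X)⁻¹ * xw
      simp [gc, gd, mul_assoc])
    have hW : R.π xv + R.π xw ∈ D.W := by
      have : R.π z ∈ D.W := hz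
      rwa [hzeq, R.π_mul, R.π_inv] at this
    rw [Classical.choose_spec (hsurj v.out), Classical.choose_spec (hsurj w.out)] at hW
    have : (QuotientAddGroup.mk v.out : V4 ⧸ D.W) = QuotientAddGroup.mk w.out := by
      rw [QuotientAddGroup.eq, ZModModule.neg_eq_self]
      exact hW
    rw [QuotientAddGroup.out_eq', QuotientAddGroup.out_eq'] at this
    rw [this]
  have h32 : 32 ≤ Nat.card (M ⧸ K) := by
    refine le_trans (le_of_eq ?_) (Nat.card_le_card_of_injective rep hinj)
    have hW := AddSubgroup.card_mul_index D.W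
    rw [D.card_W, AddSubgroup.index_eq_card, Nat.card_fun, Nat.card_zmod, Nat.card_fin] at hW
    rw [Nat.card_prod, Nat.card_prod, Nat.card_prod, Nat.card_zmod]
    omega
  omega

end Cfsg.Agent.RankFour
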