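import Cfsg.Agent.Lib.AltEightSub.Perm
import Cfsg.Agent.Lib.Linear.AltEight
import Cfsg.Agent.Lib.Linear.SpFourTwo
import Cfsg.Agent.S2553

/-!
Subgroups of `GL_4(2)` isomorphic to `S_6` (namespace `Cfsg.Agent.RankFour`).

* `exists_fixed_pair`: a copy of `S_6` in `A_8` is the stabilizer of a pair
* `exists_conj_symplectic`: all copies of `S_6` in `GL_4(2)` are conjugate to the symplectic group
* `SixData`, `sixData_of_perm`: an elementary abelian subgroup of order 8 with the linear data needed for rank five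
-/

set_option autoImplicit false

namespace Cfsg.Agent.RankFour

open Equiv MulAction

local notation "𝔾" => GL (Fin 4) (ZMod 2)
local notation "V4" => (Fin 4 → ZMod 2)

theorem card_alternating_six : Nat.card (alternatingGroup (Fin 6)) = 360 := by
  have h := two_mul_nat_card_alternatingGroup (α := Fin 6)
  rw [Nat.card_perm, Nat.card_fin, show Nat.factorial 6 = 720 from rfl] at h
  omega

/-- A copy of `S_6` in `A_8` is the stabilizer of a pair. -/
theorem exists_fixed_pair (H : Subgroup (Perm (Fin 8))) (hH : H ≤ alternatingGroup (Fin 8))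
    (e : Perm (Fin 6) ≃* H) :
    ∃ u v : Fin 8, u ≠ v ∧ ∀ g : Perm (Fin 8), g ∈ H ↔
      g ∈ alternatingGroup (Fin 8) ∧ (g u = u ∧ g v = v ∨ g u = v ∧ g v = u) := by
  classical
  let T : Subgroup (Perm (Fin 8)) := (alternatingGroup (Fin 6)).map (H.subtype.comp e.toMonoidHom)
  have hinj : Function.Injective (H.subtype.comp e.toMonoidHom) := H.subtype_injective.comp e.injective
  let eT : alternatingGroup (Fin 6) ≃* T := (alternatingGroup (Fin 6)).equivMapOfInjective _ hinj
  haveI : Nontrivial (alternatingGroup (Fin 6)) :=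
    Finite.one_lt_card_iff_nontrivial.1 (by rw [card_alternating_six]; norm_num)
  haveI : Nontrivial T := eT.toEquiv.nontrivial_congr.1 inferInstance
  haveI : IsSimpleGroup (alternatingGroup (Fin 6)) := alternatingGroup.isSimpleGroup (by simp)
  haveI : IsSimpleGroup T := IsSimpleGroup.isSimpleGroup_of_surjective eT.toMonoidHom eT.surjective
  have hTcard : Nat.card T = 360 := by rw [← Nat.card_congr eT.toEquiv, card_alternating_six]
  have hT : ¬ IsMulCommutative T := SmallOrders.not_isMulCommutative_of_card (by rw [hTcard]; norm_num)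
  obtain ⟨c, hcT, hc⟩ := AltEightSub.exists_three_cycle_mem T (by rw [hTcard]; norm_num)
  obtain ⟨a, ha⟩ := Finset.card_pos.1 (by rw [hc.card_support]; norm_num : 0 < c.support.card)
  let P : Fin 8 → Prop := fun y => y ∈ orbit T a
  have hTP : ∀ t ∈ T, ∀ y, P (t y) ↔ P y := fun t ht y =>
    ⟨fun h => by simpa [P, Subgroup.smul_def] using mem_orbit_of_mem_orbit ((⟨t, ht⟩ : T)⁻¹) h,
      fun h => mem_orbit_of_mem_orbit (⟨t, ht⟩ : T) h⟩
  have hPa : P a := mem_orbit_self a
  let rT : T →* Perm {y // P y} :=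
    { toFun := fun t => Perm.subtypePerm (t : Perm (Fin 8)) (hTP t t.2)
      map_one' := Equiv.ext fun y => Subtype.ext rfl
      map_mul' := fun s t => Equiv.ext fun y => Subtype.ext rfl }
  have hrTinj : Function.Injective rT := by
    rw [← MonoidHom.ker_eq_bot_iff]
    refine rT.normal_ker.eq_bot_or_eq_top.resolve_right fun h => ?_
    have h1 : rT ⟨c, hcT⟩ = 1 := MonoidHom.mem_ker.1 (h ▸ Subgroup.mem_top _)
    have h2 := congrArg (fun σ : Perm {y // P y} => ((σ ⟨a, hPa⟩ : {y // P y}) : Fin 8)) h1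
    exact Perm.mem_support.1 ha h2
  haveI : IsPretransitive rT.range {y // P y} := ⟨by
    rintro ⟨x, t, rfl⟩ ⟨y, s, rfl⟩
    refine ⟨⟨rT (s * t⁻¹), ⟨_, rfl⟩⟩, Subtype.ext ?_⟩
    show ((s * t⁻¹ : T) : Perm (Fin 8)) ((t : Perm (Fin 8)) a) = (s : Perm (Fin 8)) a
    simp⟩
  have eR := MonoidHom.ofInjective hrTinj
  haveI : Nontrivial rT.range := eR.toEquiv.nontrivial_congr.1 inferInstance
  haveI : IsSimpleGroup rT.range := IsSimpleGroup.isSimpleGroup_of_surjective eR.toMonoidHom eR.surjective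
  have hTna : ¬ IsMulCommutative rT.range := fun h => hT ⟨⟨fun x y => eR.injective (by
    rw [map_mul, map_mul]; exact h.is_comm.comm _ _)⟩⟩
  have hk8 : Fintype.card {y // P y} ≤ 8 := (Fintype.card_subtype_le _).trans (by simp)
  have hk5 : 5 ≤ Fintype.card {y // P y} := by
    by_contra h
    have h4 : Nat.card {y // P y} ≤ 4 := by rw [Nat.card_eq_fintype_card]; omega
    have h1 : ∀ t : rT.range, t = 1 := fun t =>
      Subtype.ext (Equiv.ext fun y => AltEightSub.smul_eq_of_card_le_four hTna h4 t y)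
    exact hTna ⟨⟨fun x y => by rw [h1 x, h1 y]⟩⟩
  have hout : ∀ t ∈ T, ∀ y, ¬ P y → t y = y := by
    intro t ht y hy
    let fT : T →* Perm {y // ¬ P y} :=
      { toFun := fun t => Perm.subtypePerm (t : Perm (Fin 8)) (fun z => not_congr (hTP t t.2 z))
        map_one' := Equiv.ext fun y => Subtype.ext rfl
        map_mul' := fun s t => Equiv.ext fun y => Subtype.ext rfl }
    letI : MulAction T {y // ¬ P y} := MulAction.compHom _ fT
    have h4 : Nat.card {y // ¬ P y} ≤ 4 := by
      rw [Nat.card_eq_fintype_card, Fintype.card_subtype_compl, Fintype.card_fin]; omega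
    exact congrArg Subtype.val (AltEightSub.smul_eq_of_card_le_four hT h4 (⟨t, ht⟩ : T) ⟨y, hy⟩)
  have hc' : (rT ⟨c, hcT⟩).IsThreeCycle := by
    rw [← card_support_eq_three_iff, ← hc.card_support]
    refine Finset.card_bij (fun y _ => (y : Fin 8)) (fun y hy => ?_) (fun y _ z _ h => Subtype.ext h) (fun y hy => ?_)
    · rw [Perm.mem_support] at hy ⊢
      exact fun h => hy (Subtype.ext h)
    · have hPy : P y := by
        by_contra h
        exact Perm.mem_support.1 hy (hout c hcT y h)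
      refine ⟨⟨y, hPy⟩, ?_, rfl⟩
      rw [Perm.mem_support] at hy ⊢
      exact fun h => hy (congrArg Subtype.val h)
  have hTalt : rT.range = alternatingGroup {y // P y} :=
    AltEightSub.eq_alternatingGroup_of_transitive hk8 rT.range hTna hc' ⟨_, rfl⟩
  -- the orbit has six points
  have hk6 : Fintype.card {y // P y} = 6 := by
    haveI : Nontrivial {y // P y} := Fintype.one_lt_card_iff_nontrivial.1 (by omega)
    have h := two_mul_nat_card_alternatingGroup (α := {y // P y})
    rw [← hTalt, ← Nat.card_congr eR.toEquiv, hTcard, Nat.card_perm, Nat.card_eq_fintype_card] at h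
    generalize Fintype.card {y // P y} = k at h hk8 hk5
    interval_cases k <;> simp [Nat.factorial] at h ⊢
  have hcompl : Fintype.card {y // ¬ P y} = 2 := by
    rw [Fintype.card_subtype_compl, Fintype.card_fin, hk6]
  obtain ⟨⟨u, hu⟩, ⟨v, hv⟩, huv, huniv⟩ := Finset.card_eq_two.1 ((Finset.card_univ (α := {y // ¬ P y})).trans hcompl)
  have hnotP : ∀ y, ¬ P y → y = u ∨ y = v := fun y hy => by
    have := Finset.mem_univ (⟨y, hy⟩ : {y // ¬ P y})
    rw [huniv, Finset.mem_insert, Finset.mem_singleton] at this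
    exact this.imp (congrArg Subtype.val) (congrArg Subtype.val)
  have huv' : u ≠ v := fun h => huv (Subtype.ext h)
  -- the stabilizer of the pair
  let K : Subgroup (Perm (Fin 8)) :=
    { carrier := {g | g ∈ alternatingGroup (Fin 8) ∧ (g u = u ∧ g v = v ∨ g u = v ∧ g v = u)}
      one_mem' := ⟨one_mem _, Or.inl ⟨rfl, rfl⟩⟩
      mul_mem' := by
        rintro g h ⟨hg, hg'⟩ ⟨hh, hh'⟩
        refine ⟨mul_mem hg hh, ?_⟩
        rcases hh' with ⟨h1, h2⟩ | ⟨h1, h2⟩ <;> rcases hg' with ⟨g1, g2⟩ | ⟨g1, g2⟩ <;>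
          simp [Perm.mul_apply, h1, h2, g1, g2]
      inv_mem' := by
        rintro g ⟨hg, hg'⟩
        refine ⟨inv_mem hg, ?_⟩
        rcases hg' with ⟨g1, g2⟩ | ⟨g1, g2⟩
        · left
          constructor <;> rw [Perm.inv_eq_iff_eq] <;> simp [g1, g2]
        · right
          constructor <;> rw [Perm.inv_eq_iff_eq] <;> simp [g1, g2] }
  have hHK : H ≤ K := by
    intro h hh
    have hfix : ∀ y, ¬ P y → ¬ P (h y) := by
      intro y hy hP
      -- `h y` is fixed by `T`
      have hall : ∀ t ∈ T, t (h y) = h y := by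
        intro t ht
        obtain ⟨s, hs, rfl⟩ := ht
        have hconj : h⁻¹ * (H.subtype.comp e.toMonoidHom) s * h ∈ T := by
          refine ⟨(e.symm ⟨h, hh⟩)⁻¹ * s * e.symm ⟨h, hh⟩, ?_, ?_⟩
          · have := (alternatingGroup.normal (α := Fin 6)).conj_mem s hs (e.symm ⟨h, hh⟩)⁻¹
            simpa using this
          · simp
        have h1 := hout _ hconj y hy
        have h2 := congrArg h h1
        simpa [Perm.mul_apply] using h2
      obtain ⟨w, hw⟩ : ∃ w : {z // P z}, w ≠ ⟨h y, hP⟩ :=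
        Fintype.exists_ne_of_one_lt_card (by omega) _
      obtain ⟨⟨_, t, rfl⟩, ht⟩ := exists_smul_eq rT.range (⟨h y, hP⟩ : {z // P z}) w
      exact hw (ht.symm.trans (Subtype.ext (hall t t.2)))
    have h1 := hnotP _ (hfix u hu)
    have h2 := hnotP _ (hfix v hv)
    refine ⟨hH hh, ?_⟩
    rcases h1 with h1 | h1 <;> rcases h2 with h2 | h2
    · exact absurd (h.injective (h1.trans h2.symm)) huv'
    · exact Or.inl ⟨h1, h2⟩
    · exact Or.inr ⟨h1, h2⟩
    · exact absurd (h.injective (h1.trans h2.symm)) huv'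
  have hKP : ∀ g : K, ∀ y, P ((g : Perm (Fin 8)) y) ↔ P y := by
    intro g y
    have hiff : ∀ z, P z ↔ z ≠ u ∧ z ≠ v := fun z =>
      ⟨fun hz => ⟨fun e => hu (e ▸ hz), fun e => hv (e ▸ hz)⟩, fun hz => by
        by_contra hn
        exact (hnotP z hn).elim hz.1 hz.2⟩
    rw [hiff, hiff]
    have key : ∀ {p q : Fin 8}, (g : Perm (Fin 8)) q = p → ((g : Perm (Fin 8)) y = p ↔ y = q) := fun {p q} h =>
      ⟨fun e => (g : Perm (Fin 8)).injective (e.trans h.symm), fun e => e ▸ h⟩
    rcases g.2.2 with ⟨g1, g2⟩ | ⟨g1, g2⟩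
    · rw [ne_eq, ne_eq, ne_eq, ne_eq, key g1, key g2]
    · rw [ne_eq, ne_eq, ne_eq, ne_eq, key g1, key g2, and_comm]
  let rK : K →* Perm {y // P y} :=
    { toFun := fun g => Perm.subtypePerm (g : Perm (Fin 8)) (hKP g)
      map_one' := Equiv.ext fun y => Subtype.ext rfl
      map_mul' := fun s t => Equiv.ext fun y => Subtype.ext rfl }
  have hrK : Function.Injective rK := by
    rw [injective_iff_map_eq_one]
    intro g hg
    have hP' : ∀ z, P z → (g : Perm (Fin 8)) z = z := fun z hz =>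
      congrArg (fun σ : Perm {y // P y} => ((σ ⟨z, hz⟩ : {y // P y}) : Fin 8)) hg
    rcases g.2.2 with ⟨g1, g2⟩ | ⟨g1, g2⟩
    · refine Subtype.ext (Equiv.ext fun z => ?_)
      by_cases hz : P z
      · exact hP' z hz
      · rcases hnotP z hz with rfl | rfl
        · exact g1
        · exact g2
    · exfalso
      have hs : (g : Perm (Fin 8)) = swap u v := Equiv.ext fun z => by
        by_cases hz : P z
        · rw [hP' z hz, swap_apply_of_ne_of_ne (fun e => hu (by rwa [← e])) (fun e => hv (by rwa [← e]))]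
        · rcases hnotP z hz with rfl | rfl
          · rw [g1, swap_apply_left]
          · rw [g2, swap_apply_right]
      have := Perm.mem_alternatingGroup.1 g.2.1
      rw [hs, Perm.sign_swap huv'] at this
      exact absurd this (by decide)
  have hcardK : Nat.card K ≤ Nat.card H := by
    refine (Nat.card_le_card_of_injective _ hrK).trans (le_of_eq ?_)
    rw [← Nat.card_congr e.toEquiv, Nat.card_perm, Nat.card_perm, Nat.card_eq_fintype_card, hk6,
      Nat.card_fin]
  refine ⟨u, v, huv', fun g => ?_⟩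
  rw [Subgroup.eq_of_le_of_card_ge hHK hcardK]
  exact Iff.rfl

theorem exists_even_carrying : ∀ u v u' v' : Fin 8, u ≠ v → u' ≠ v' →
    ∃ σ ∈ alternatingGroup (Fin 8), σ u = u' ∧ σ v = v' ∨ σ u = v' ∧ σ v = u' := by
  intro u v u' v' h h'
  set σ₁ : Perm (Fin 8) := swap (swap u u' v) v' * swap u u'
  have hne : swap u u' v ≠ u' := fun e =>
    h ((swap u u').injective (by rw [swap_apply_left, e]))
  have h1 : σ₁ u = u' ∧ σ₁ v = v' := by
    refine ⟨?_, by simp [σ₁]⟩
    simp only [σ₁, Perm.mul_apply, swap_apply_left]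
    exact swap_apply_of_ne_of_ne hne.symm h'
  rcases Int.units_eq_one_or (Perm.sign σ₁) with hs | hs
  · exact ⟨σ₁, Perm.mem_alternatingGroup.2 hs, Or.inl h1⟩
  · refine ⟨swap u' v' * σ₁, Perm.mem_alternatingGroup.2 ?_, Or.inr ⟨?_, ?_⟩⟩
    · rw [map_mul, hs, Perm.sign_swap h']; decide
    · rw [Perm.mul_apply, h1.1, swap_apply_left]
    · rw [Perm.mul_apply, h1.2, swap_apply_right]

/-- All copies of `S_6` in `A_8` are conjugate. -/
theorem exists_conj_alt (H K : Subgroup (alternatingGroup (Fin 8))) (eH : Perm (Fin 6) ≃* H)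
    (eK : Perm (Fin 6) ≃* K) : ∃ g : alternatingGroup (Fin 8), ∀ x ∈ H, g * x * g⁻¹ ∈ K := by
  obtain ⟨u, v, huv, hHiff⟩ := exists_fixed_pair (H.map (alternatingGroup (Fin 8)).subtype) (Subgroup.map_subtype_le H)
    (eH.trans (H.equivMapOfInjective _ (alternatingGroup (Fin 8)).subtype_injective))
  obtain ⟨u', v', huv', hKiff⟩ := exists_fixed_pair (K.map (alternatingGroup (Fin 8)).subtype) (Subgroup.map_subtype_le K)
    (eK.trans (K.equivMapOfInjective _ (alternatingGroup (Fin 8)).subtype_injective))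
  obtain ⟨σ, hσA, hσ⟩ : ∃ σ ∈ (alternatingGroup (Fin 8)), σ u = u' ∧ σ v = v' ∨ σ u = v' ∧ σ v = u' :=
    exists_even_carrying u v u' v' huv huv'
  refine ⟨⟨σ, hσA⟩, fun x hx => ?_⟩
  have hxA := ((hHiff x).1 ⟨x, hx, rfl⟩).2
  have : ((⟨σ, hσA⟩ * x * (⟨σ, hσA⟩ : (alternatingGroup (Fin 8)))⁻¹ : (alternatingGroup (Fin 8))) : Perm (Fin 8)) ∈ K.map (alternatingGroup (Fin 8)).subtype := by
    refine (hKiff _).2 ⟨(⟨σ, hσA⟩ * x * (⟨σ, hσA⟩ : (alternatingGroup (Fin 8)))⁻¹ : (alternatingGroup (Fin 8))).2, ?_⟩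
    simp only [Subgroup.coe_mul, InvMemClass.coe_inv, Perm.mul_apply]
    rcases hσ with ⟨s1, s2⟩ | ⟨s1, s2⟩ <;> rcases hxA with ⟨x1, x2⟩ | ⟨x1, x2⟩ <;>
      rw [← s1, ← s2] <;> simp [x1, x2]
  obtain ⟨z, hz, hzx⟩ := this
  have e : z = ⟨σ, hσA⟩ * x * (⟨σ, hσA⟩ : alternatingGroup (Fin 8))⁻¹ := Subtype.ext hzx
  rwa [← e]

/-! ### The symplectic group -/

/-- The symplectic group in `GL_4(2)`. -/
noncomputable def spHom : Matrix.symplecticGroup (Fin 2) (ZMod 2) →* 𝔾 :=
  MonoidHom.toHomUnits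
    { toFun := fun A => Matrix.reindexAlgEquiv (ZMod 2) (ZMod 2) finSumFinEquiv
        (A : Matrix (Fin 2 ⊕ Fin 2) (Fin 2 ⊕ Fin 2) (ZMod 2))
      map_one' := map_one _
      map_mul' := fun A B => map_mul _ _ _ }

theorem spHom_injective : Function.Injective spHom := fun A B h =>
  Subtype.ext ((Matrix.reindexAlgEquiv (ZMod 2) (ZMod 2) finSumFinEquiv).injective (congrArg Units.val h))

/-- All copies of `S_6` in `GL_4(2)` are conjugate to the symplectic group. -/
theorem exists_conj_symplectic (H : Subgroup 𝔾) (eH : Perm (Fin 6) ≃* H) :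
    ∃ g : 𝔾, ∀ x ∈ spHom.range, g * x * g⁻¹ ∈ H := by
  obtain ⟨e⟩ := S2553.nonempty_glFour_two
  obtain ⟨s⟩ := Linear.nonempty_spFour_two (F := ZMod 2) (by simp [ZMod.card])
  obtain ⟨g, hg⟩ := exists_conj_alt (spHom.range.map e.toMonoidHom) (H.map e.toMonoidHom)
    (((s.symm).trans (MonoidHom.ofInjective spHom_injective)).trans
      (spHom.range.equivMapOfInjective _ e.injective))
    (eH.trans (H.equivMapOfInjective _ e.injective))
  refine ⟨e.symm g, fun x hx => ?_⟩
  obtain ⟨z, hz, hzx⟩ := hg (e x) ⟨x, hx, rfl⟩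
  have : z = e.symm g * x * (e.symm g)⁻¹ := e.injective (by simpa using hzx)
  exact this ▸ hz

/-- The elementary abelian subgroup, as a family of matrices. -/
def eMat (c : ZMod 2 × ZMod 2 × ZMod 2) : Matrix (Fin 4) (Fin 4) (ZMod 2) :=
  !![1, 0, c.1, c.2.1; 0, 1, c.2.1, c.2.2; 0, 0, 1, 0; 0, 0, 0, 1]

/-- The elements used to move the fixed points of `eMat c`. -/
def yMat (c : ZMod 2 × ZMod 2 × ZMod 2) : Matrix (Fin 4) (Fin 4) (ZMod 2) :=
  if c = (0, 0, 1) then !![1, 0, 1, 0; 0, 1, 0, 0; 1, 0, 0, 0; 0, 0, 0, 1]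
  else if c = (1, 0, 0) then !![1, 0, 0, 0; 0, 1, 0, 1; 0, 0, 1, 0; 0, 1, 0, 0]
  else if c = (1, 1, 1) then !![0, 1, 0, 1; 1, 0, 0, 0; 0, 0, 0, 1; 0, 0, 1, 0]
  else if c = (0, 1, 0) ∨ c = (1, 0, 1) then !![0, 1, 0, 0; 1, 0, 0, 0; 0, 0, 0, 1; 0, 0, 1, 0]
  else 1

theorem eMat_sym : ∀ c, (Matrix.reindex (finSumFinEquiv (m := 2) (n := 2)).symm (finSumFinEquiv (m := 2) (n := 2)).symm (eMat c) :
      Matrix (Fin 2 ⊕ Fin 2) (Fin 2 ⊕ Fin 2) (ZMod 2)) * Matrix.J (Fin 2) (ZMod 2) *
      (Matrix.reindex (finSumFinEquiv (m := 2) (n := 2)).symm (finSumFinEquiv (m := 2) (n := 2)).symm (eMat c)).transpose = Matrix.J (Fin 2) (ZMod 2) := by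
  decide +kernel

theorem yMat_sym : ∀ c, (Matrix.reindex (finSumFinEquiv (m := 2) (n := 2)).symm (finSumFinEquiv (m := 2) (n := 2)).symm (yMat c) :
      Matrix (Fin 2 ⊕ Fin 2) (Fin 2 ⊕ Fin 2) (ZMod 2)) * Matrix.J (Fin 2) (ZMod 2) *
      (Matrix.reindex (finSumFinEquiv (m := 2) (n := 2)).symm (finSumFinEquiv (m := 2) (n := 2)).symm (yMat c)).transpose = Matrix.J (Fin 2) (ZMod 2) := by
  decide +kernel

theorem eMat_mul : ∀ c d, eMat c * eMat d = eMat (c + d) := by decide +kernel

theorem yMat_comm : ∀ c, yMat c * eMat c = eMat c * yMat c := by decide +kernel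

theorem eMat_image : ∀ (c : ZMod 2 × ZMod 2 × ZMod 2) (v : V4),
    (Matrix.mulVec (eMat c) v + v) 2 = 0 ∧ (Matrix.mulVec (eMat c) v + v) 3 = 0 := by decide +kernel

theorem eMat_fixed : ∀ c : ZMod 2 × ZMod 2 × ZMod 2, c ≠ 0 → ∀ v : V4, Matrix.mulVec (eMat c) v = v →
    (∃ x : V4, Matrix.mulVec (yMat c) v + v = Matrix.mulVec (eMat c) x + x) → v 2 = 0 ∧ v 3 = 0 := by
  decide +kernel

theorem eMat_injective : Function.Injective eMat := by
  intro c d h
  exact Prod.ext (congrFun (congrFun h 0) 2) (Prod.ext (congrFun (congrFun h 0) 3) (congrFun (congrFun h 1) 3))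

/-- An elementary abelian subgroup of order `8` with a plane `W` containing all commutators, such that the squares
of lifts of its elements fall into `W`. -/
structure SixData (H : Subgroup 𝔾) where
  el : ZMod 2 × ZMod 2 × ZMod 2 → 𝔾
  el_mem : ∀ c, el c ∈ H
  el_mul : ∀ c d, el c * el d = el (c + d)
  el_inj : Function.Injective el
  W : AddSubgroup V4
  card_W : Nat.card W = 4
  image : ∀ c v, Matrix.mulVec (el c).val v + v ∈ W
  fixed : ∀ c, c ≠ 0 → ∃ y ∈ H, y * el c = el c * y ∧ ∀ v, Matrix.mulVec (el c).val v = v →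
    (∃ x, Matrix.mulVec y.val v + v = Matrix.mulVec (el c).val x + x) → v ∈ W

/-- The plane of the first two coordinates. -/
def planeW : AddSubgroup V4 where
  carrier := {v | v 2 = 0 ∧ v 3 = 0}
  zero_mem' := ⟨rfl, rfl⟩
  add_mem' {a b} ha hb := ⟨by simp [ha.1, hb.1], by simp [ha.2, hb.2]⟩
  neg_mem' {a} ha := ⟨by simp [ha.1], by simp [ha.2]⟩

theorem card_planeW : Nat.card planeW = 4 := by
  rw [Nat.card_congr (β := ZMod 2 × ZMod 2)
    { toFun := fun v : planeW => ((v : V4) 0, (v : V4) 1)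
      invFun := fun c => (⟨![c.1, c.2, 0, 0], rfl, rfl⟩ : planeW)
      left_inv := fun v => Subtype.ext (funext fun i => by
        fin_cases i
        · rfl
        · rfl
        · exact v.2.1.symm
        · exact v.2.2.symm)
      right_inv := fun c => rfl }]
  simp

theorem mem_spRange {M : Matrix (Fin 4) (Fin 4) (ZMod 2)}
    (h : (Matrix.reindex (finSumFinEquiv (m := 2) (n := 2)).symm (finSumFinEquiv (m := 2) (n := 2)).symm M :
      Matrix (Fin 2 ⊕ Fin 2) (Fin 2 ⊕ Fin 2) (ZMod 2)) * Matrix.J (Fin 2) (ZMod 2) *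
      (Matrix.reindex (finSumFinEquiv (m := 2) (n := 2)).symm (finSumFinEquiv (m := 2) (n := 2)).symm M).transpose = Matrix.J (Fin 2) (ZMod 2)) :
    ∃ g ∈ spHom.range, (g : 𝔾).val = M := by
  refine ⟨spHom ⟨_, SymplecticGroup.mem_iff.2 h⟩, ⟨_, rfl⟩, ?_⟩
  show Matrix.reindex finSumFinEquiv finSumFinEquiv (Matrix.reindex (finSumFinEquiv (m := 2) (n := 2)).symm (finSumFinEquiv (m := 2) (n := 2)).symm M) = M
  ext i j
  simp

theorem sixData_of_perm (H : Subgroup 𝔾) (eH : Perm (Fin 6) ≃* H) : Nonempty (SixData H) := by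
  obtain ⟨g, hg⟩ := exists_conj_symplectic H eH
  choose el hel helv using fun c => mem_spRange (eMat_sym c)
  choose yy hyy hyyv using fun c => mem_spRange (yMat_sym c)
  have hback : ∀ v, Matrix.mulVec g.val (Matrix.mulVec (g⁻¹ : 𝔾).val v) = v := fun v => by
    rw [Matrix.mulVec_mulVec, ← Units.val_mul, mul_inv_cancel, Units.val_one, Matrix.one_mulVec]
  have hback' : ∀ v, Matrix.mulVec (g⁻¹ : 𝔾).val (Matrix.mulVec g.val v) = v := fun v => by
    rw [Matrix.mulVec_mulVec, ← Units.val_mul, inv_mul_cancel, Units.val_one, Matrix.one_mulVec]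
  have hconj : ∀ (a : 𝔾) (v : V4), Matrix.mulVec (g * a * g⁻¹ : 𝔾).val v =
      Matrix.mulVec g.val (Matrix.mulVec a.val (Matrix.mulVec (g⁻¹ : 𝔾).val v)) := fun a v => by
    rw [Matrix.mulVec_mulVec, Matrix.mulVec_mulVec, Units.val_mul, Units.val_mul, Matrix.mul_assoc]
  let L : V4 →+ V4 :=
    { toFun := fun v => Matrix.mulVec (g⁻¹ : 𝔾).val v
      map_zero' := Matrix.mulVec_zero _
      map_add' := Matrix.mulVec_add _ }
  refine ⟨⟨fun c => g * el c * g⁻¹, fun c => hg _ (hel c), fun c d => ?_, fun c d h => ?_,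
    planeW.comap L, ?_, fun c v => ?_, fun c hc => ⟨g * yy c * g⁻¹, hg _ (hyy c), ?_, fun v hv hx => ?_⟩⟩⟩
  · have e : el c * el d = el (c + d) := Units.ext (by rw [Units.val_mul, helv, helv, helv, eMat_mul])
    rw [← e]; group
  · exact eMat_injective (by rw [← helv, ← helv, mul_left_cancel (mul_right_cancel h)])
  · rw [Nat.card_congr (α := ↥(planeW.comap L)) (β := planeW)
      { toFun := fun v => ⟨L v, v.2⟩
        invFun := fun w => ⟨Matrix.mulVec g.val (w : V4), by
          show L (Matrix.mulVec g.val (w : V4)) ∈ planeW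
          rw [show L (Matrix.mulVec g.val (w : V4)) = (w : V4) from hback' _]
          exact w.2⟩
        left_inv := fun v => Subtype.ext (hback _)
        right_inv := fun w => Subtype.ext (hback' _) }]
    exact card_planeW
  · show L (Matrix.mulVec (g * el c * g⁻¹ : 𝔾).val v + v) ∈ planeW
    rw [map_add, hconj, show ∀ w, L (Matrix.mulVec g.val w) = w from hback', helv]
    exact eMat_image c _
  · have e : yy c * el c = el c * yy c := Units.ext (by rw [Units.val_mul, Units.val_mul, helv, hyyv, yMat_comm])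
    calc g * yy c * g⁻¹ * (g * el c * g⁻¹) = g * (yy c * el c) * g⁻¹ := by group
      _ = g * (el c * yy c) * g⁻¹ := by rw [e]
      _ = g * el c * g⁻¹ * (g * yy c * g⁻¹) := by group
  · obtain ⟨x, hx⟩ := hx
    have hv' := congrArg L hv
    have hx' := congrArg L hx
    rw [hconj, show ∀ w, L (Matrix.mulVec g.val w) = w from hback', helv] at hv'
    rw [map_add, map_add, hconj, hconj, show ∀ w, L (Matrix.mulVec g.val w) = w from hback',
      show ∀ w, L (Matrix.mulVec g.val w) = w from hback', helv, hyyv] at hx'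
    exact eMat_fixed c hc (L v) hv' ⟨L x, hx'⟩

end Cfsg.Agent.RankFour
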